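import Groth.Agent.GrLib8.Samuel.Serre

/-!
# Lech's limit formula
-/

set_option autoImplicit false

universe u

open Filter Topology CategoryTheory
open Groth.Agent.GrLib8.KChi

namespace Groth.Agent.GrLib8.Samuel

variable {A : Type u} [CommRing A] [IsNoetherianRing A] [IsLocalRing A]

theorem chi_eq_sum (M : ModuleCat.{u} A) (l : List A) (d : ℕ) (hd : l.length = d) :
    chi M l = ∑ j ∈ Finset.range (d + 1), sgn (-(j : ℤ)) * len A (H M l (-(j : ℤ))) := by
  rw [chi, finsum_eq_sum_of_support_subset (s := (Finset.range (d + 1)).image fun j : ℕ => -(j : ℤ))]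
  · exact Finset.sum_image fun a _ b _ h => Nat.cast_inj.1 (neg_inj.1 h)
  · intro i hi
    rw [Finset.coe_image, Set.mem_image]
    by_contra hc
    refine hi (show sgn i * len A (H M l i) = 0 from ?_)
    rw [len_H_eq_zero M l (i := i) ?_, mul_zero]
    by_contra hc'
    exact hc ⟨(-i).toNat, by simp only [Finset.coe_range, Set.mem_Iio]; omega, by omega⟩

theorem tendsto_len_powers (l : List A) (hl : ∀ x ∈ l, x ∈ IsLocalRing.maximalIdeal A) (M : Type u)
    [AddCommGroup M] [Module A M] [Module.Finite A M] (hM : FL (ModuleCat.of A M) l) :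
    Tendsto (fun n : ℕ => ((Module.length A (M ⧸ (Ideal.ofList (l.map (· ^ n)) • (⊤ : Submodule A M)))).toNat : ℝ) /
      (n : ℝ) ^ l.length) atTop (𝓝 (chi (ModuleCat.of A M) l : ℝ)) := by
  set d := l.length with hd
  set N := ModuleCat.of A M
  have hFLn : ∀ n : ℕ, FL N (l.map (· ^ n)) ∧ chi N (l.map (· ^ n)) = (n : ℤ) ^ d * chi N l := by
    intro n
    have h := chi_pow_list N (l.map fun a => (a, n)) [] (by
      simpa [List.map_map, Function.comp_def] using hM)
    simp only [List.map_map, Function.comp_def, List.append_nil, List.map_id'] at h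
    refine ⟨h.1, h.2.trans ?_⟩
    rw [List.map_const', List.prod_replicate]
  have hb : ∀ j ∈ Finset.range d, ∃ c : ℕ, ∀ n : ℕ, 0 < n →
      len A (H N (l.map (· ^ n)) (-((j + 1 : ℕ) : ℤ))) * n ≤ (c : ℤ) * (n : ℤ) ^ d := by
    intro j hj
    rw [Finset.mem_range] at hj
    obtain ⟨c, hc⟩ := exists_bound l M hM (j + 1) (d - 1) (Or.inl (by omega))
    refine ⟨c, fun n hn => ?_⟩
    have h1 : (Module.length A (H N (l.map (· ^ n)) (-((j + 1 : ℕ) : ℤ)))).toNat ≤ c * n ^ (d - 1) :=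
      (ENat.toNat_le_toNat (hc n hn) (ENat.natCast_ne_top _)).trans_eq (ENat.toNat_natCast _)
    have h2 : (Module.length A (H N (l.map (· ^ n)) (-((j + 1 : ℕ) : ℤ)))).toNat * n ≤ c * n ^ d := by
      calc _ ≤ c * n ^ (d - 1) * n := Nat.mul_le_mul_right n h1
        _ = _ := by rw [mul_assoc, ← pow_succ, show d - 1 + 1 = d by omega]
    rw [len]
    exact_mod_cast h2
  choose! c hc using hb
  have herr : Tendsto (fun n : ℕ => ((∑ j ∈ Finset.range d, c j : ℕ) : ℝ) / (n : ℝ)) atTop (𝓝 0) :=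
    tendsto_const_div_atTop_nhds_zero_nat _
  rw [tendsto_iff_norm_sub_tendsto_zero]
  refine squeeze_zero' (Eventually.of_forall fun n => norm_nonneg _) ?_ herr
  filter_upwards [eventually_gt_atTop 0] with n hn
  obtain ⟨hFL, hchi⟩ := hFLn n
  have hsum := chi_eq_sum N (l.map (· ^ n)) d (List.length_map _)
  rw [hchi, Finset.sum_range_succ'] at hsum
  have hH0 : len A (H N (l.map (· ^ n)) (-((0 : ℕ) : ℤ))) =
      ((Module.length A (M ⧸ (Ideal.ofList (l.map (· ^ n)) • (⊤ : Submodule A M)))).toNat : ℤ) :=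
    len_congr (Koszul15.nonempty_top_equiv (l.map (· ^ n)) N).some
  rw [show sgn (-((0 : ℕ) : ℤ)) = 1 by simp [sgn], one_mul, hH0] at hsum
  set a : ℤ := ((Module.length A (M ⧸ (Ideal.ofList (l.map (· ^ n)) • (⊤ : Submodule A M)))).toNat : ℤ) with ha
  have hbound : |a - (n : ℤ) ^ d * chi N l| * n ≤ ((∑ j ∈ Finset.range d, c j : ℕ) : ℤ) * (n : ℤ) ^ d := by
    rw [hsum, show a - ((∑ j ∈ Finset.range d, sgn (-((j + 1 : ℕ) : ℤ)) *
      len A (H N (l.map (· ^ n)) (-((j + 1 : ℕ) : ℤ)))) + a) =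
      -∑ j ∈ Finset.range d, sgn (-((j + 1 : ℕ) : ℤ)) * len A (H N (l.map (· ^ n)) (-((j + 1 : ℕ) : ℤ))) by ring,
      abs_neg, Nat.cast_sum, Finset.sum_mul]
    refine (mul_le_mul_of_nonneg_right (Finset.abs_sum_le_sum_abs _ _) (Int.natCast_nonneg n)).trans ?_
    rw [Finset.sum_mul]
    refine Finset.sum_le_sum fun j hj => le_trans (le_of_eq ?_) (hc j hj n hn)
    rw [abs_mul, show |sgn (-((j + 1 : ℕ) : ℤ))| = 1 from Int.abs_eq_natAbs _ ▸ by simp [sgn, Int.units_natAbs],
      one_mul, abs_of_nonneg (show (0 : ℤ) ≤ len A (H N (l.map (· ^ n)) (-((j + 1 : ℕ) : ℤ))) from Int.natCast_nonneg _)]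
  have hn0 : (0 : ℝ) < n := by exact_mod_cast hn
  have hR : |(a : ℝ) - (n : ℝ) ^ d * (chi N l : ℝ)| * n ≤ ((∑ j ∈ Finset.range d, c j : ℕ) : ℝ) * (n : ℝ) ^ d := by
    exact_mod_cast hbound
  rw [Real.norm_eq_abs]
  have hcast : ((Module.length A (M ⧸ (Ideal.ofList (l.map (· ^ n)) • (⊤ : Submodule A M)))).toNat : ℝ) = (a : ℝ) := by
    rw [ha]; norm_cast
  rw [hcast, div_sub' (pow_ne_zero _ hn0.ne'), abs_div, abs_of_pos (pow_pos hn0 d),
    div_le_div_iff₀ (pow_pos hn0 d) hn0]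
  exact hR

/-- Lech's formula. -/
theorem lech (d : ℕ) (x : Fin d → A) (M : Type u) [AddCommGroup M] [Module A M] [Module.Finite A M]
    (hfl : IsFiniteLength A (M ⧸ (Ideal.span (Set.range x) • (⊤ : Submodule A M)))) :
    ∃ L : ℝ,
      Tendsto (fun n : ℕ => ((Module.length A (M ⧸ (Ideal.span (Set.range x) ^ n • (⊤ : Submodule A M)))).toNat : ℝ) / (n : ℝ) ^ d)
        atTop (𝓝 L) ∧
      Tendsto (fun n : ℕ => ((Module.length A (M ⧸ (Ideal.span (Set.range fun i => x i ^ n) • (⊤ : Submodule A M)))).toNat : ℝ) / (n : ℝ) ^ d)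
        atTop (𝓝 ((Nat.factorial d : ℝ) * L)) := by
  by_cases hx : ∀ i, x i ∈ IsLocalRing.maximalIdeal A
  · set l := List.ofFn x
    have hl : ∀ y ∈ l, y ∈ IsLocalRing.maximalIdeal A := fun y hy => by
      obtain ⟨i, rfl⟩ := List.mem_ofFn.1 hy
      exact hx i
    have hlen : l.length = d := List.length_ofFn
    have hFL : FL (ModuleCat.of A M) l := (FL_iff _ _).2 (by rw [← span_range_eq_ofList]; exact hfl)
    refine ⟨(chi (ModuleCat.of A M) l : ℝ) / (d.factorial : ℝ), ?_, ?_⟩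
    · refine ((tendsto_chi l hl M hFL).div_const (d.factorial : ℝ)).congr fun n => ?_
      rw [hlen, ← span_range_eq_ofList]
      field_simp
    · have h := tendsto_len_powers l hl M hFL
      rw [hlen] at h
      rw [mul_div_cancel₀ _ (by positivity)]
      refine h.congr fun n => ?_
      rw [span_range_eq_ofList, List.map_ofFn]
      rfl
  · push Not at hx
    obtain ⟨i, hi⟩ := hx
    have hu : IsUnit (x i) := IsLocalRing.notMem_maximalIdeal.1 hi
    have h1 : Ideal.span (Set.range x) = ⊤ := Ideal.eq_top_of_isUnit_mem _ (Ideal.subset_span ⟨i, rfl⟩) hu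
    have h2 : ∀ n : ℕ, Ideal.span (Set.range fun i => x i ^ n) = ⊤ := fun n =>
      Ideal.eq_top_of_isUnit_mem _ (Ideal.subset_span ⟨i, rfl⟩) (hu.pow n)
    have h0 : ∀ J : Ideal A, J = ⊤ → (Module.length A (M ⧸ (J • (⊤ : Submodule A M)))).toNat = 0 := fun J hJ => by
      haveI : Subsingleton (M ⧸ (J • (⊤ : Submodule A M))) :=
        Submodule.Quotient.subsingleton_iff.2 (by rw [hJ, Submodule.top_smul])
      simp [Module.length_eq_zero]
    refine ⟨0, ?_, ?_⟩
    · refine tendsto_const_nhds.congr fun n => ?_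
      rw [h0 _ (by rw [h1, Ideal.top_pow])]
      simp
    · rw [mul_zero]
      refine tendsto_const_nhds.congr fun n => ?_
      rw [h0 _ (h2 n)]
      simp

theorem tendsto_samuel_koszul (d : ℕ) (x : Fin d → A) (hx : ∀ j, x j ∈ IsLocalRing.maximalIdeal A)
    (M : Type u) [AddCommGroup M] [Module A M] [Module.Finite A M]
    (hfl : IsFiniteLength A (M ⧸ (Ideal.span (Set.range x) • (⊤ : Submodule A M)))) :
    Tendsto (fun n : ℕ => (d.factorial : ℝ) *
        ((Module.length A (M ⧸ (Ideal.span (Set.range x) ^ n • (⊤ : Submodule A M)))).toNat : ℝ) / (n : ℝ) ^ d)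
      atTop (𝓝 ((chi (ModuleCat.of A M) (List.ofFn x) : ℤ) : ℝ)) := by
  have h := tendsto_chi (List.ofFn x) (fun y hy => by obtain ⟨i, rfl⟩ := List.mem_ofFn.1 hy; exact hx i) M
    ((FL_iff _ _).2 (by rw [← span_range_eq_ofList]; exact hfl))
  rw [List.length_ofFn] at h
  rwa [span_range_eq_ofList]

end Groth.Agent.GrLib8.Samuel
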