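import Groth.Agent.GrLib8.Samuel.Growth
import Mathlib.Algebra.CharP.Frobenius
import Mathlib.RingTheory.KrullDimension.Regular

/-!
# Reductions, flat multiplicity and tight closure: consequences of the growth of Samuel functions
-/

set_option autoImplicit false

universe u

open Filter Topology
open Groth.Agent.HSLib

namespace Groth.Agent.GrLib8.Samuel

variable {A : Type u} [CommRing A]

theorem hs_self (a : Ideal A) (t : ℕ) : hs a A t = (Module.length A (A ⧸ a ^ t)).toNat := by
  rw [hs, smul_eq_mul, Ideal.mul_top]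

/-- An element integral over `b` inside `a`, in ideal form. -/
theorem span_pow_le_of_eqn {a b : Ideal A} (hba : b ≤ a) {x : A} (hx : x ∈ a) {n : ℕ} {c : Fin n → A}
    (hc : ∀ i : Fin n, c i ∈ b ^ ((i : ℕ) + 1)) (he : x ^ n + ∑ i : Fin n, c i * x ^ (n - 1 - (i : ℕ)) = 0) :
    Ideal.span {x} ^ n ≤ b * a ^ (n - 1) := by
  rw [Ideal.span_singleton_pow, Ideal.span_singleton_le_iff_mem, eq_neg_of_add_eq_zero_left he]
  refine neg_mem (sum_mem fun i _ => ?_)
  have h1 : b ^ ((i : ℕ) + 1) * a ^ (n - 1 - (i : ℕ)) ≤ b * a ^ (n - 1) := by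
    rw [pow_succ', mul_assoc]
    refine Ideal.mul_mono le_rfl ((Ideal.mul_mono (Ideal.pow_right_mono hba _) le_rfl).trans ?_)
    rw [← pow_add, show (i : ℕ) + (n - 1 - (i : ℕ)) = n - 1 by omega]
  exact h1 (Ideal.mul_mem_mul (hc i) (Ideal.pow_mem_pow hx _))

theorem exists_reduction_step {a b : Ideal A} (s : Finset A) (hs : ∀ x ∈ s, x ∈ a)
    (hint : ∀ x ∈ s, ∃ n : ℕ, 0 < n ∧ Ideal.span {x} ^ n ≤ b * a ^ (n - 1)) :
    ∃ K, 0 < K ∧ Ideal.span (s : Set A) ^ K ≤ b * a ^ (K - 1) := by
  classical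
  induction s using Finset.induction with
  | empty => exact ⟨1, one_pos, by simp⟩
  | insert x s hxs ih =>
    obtain ⟨K, hK, hKs⟩ := ih (fun y hy => hs y (Finset.mem_insert_of_mem hy))
      (fun y hy => hint y (Finset.mem_insert_of_mem hy))
    obtain ⟨n, hn, hnx⟩ := hint x (Finset.mem_insert_self x s)
    refine ⟨n + K, by omega, ?_⟩
    have hsa : Ideal.span (s : Set A) ≤ a := Ideal.span_le.2 fun y hy => hs y (Finset.mem_insert_of_mem hy)
    have hxa : Ideal.span {x} ≤ a := (Ideal.span_singleton_le_iff_mem _).2 (hs x (Finset.mem_insert_self x s))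
    rw [Finset.coe_insert, Ideal.span_insert, ← Submodule.add_eq_sup, add_pow, Ideal.sum_eq_sup]
    refine Finset.sup_le fun m hm => Ideal.mul_le_left.trans ?_
    rw [Finset.mem_range] at hm
    rcases le_or_gt n m with h | h
    · obtain ⟨m, rfl⟩ := Nat.exists_eq_add_of_le h
      rw [pow_add, mul_assoc]
      refine (Ideal.mul_mono hnx (Ideal.mul_mono (Ideal.pow_right_mono hxa _) (Ideal.pow_right_mono hsa _))).trans ?_
      rw [mul_assoc, ← pow_add, ← pow_add, show n - 1 + (m + (n + K - (n + m))) = n + K - 1 by omega]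
    · obtain ⟨e, he⟩ : ∃ e, n + K - m = K + e := ⟨n - m, by omega⟩
      rw [he, pow_add (Ideal.span (s : Set A))]
      refine (Ideal.mul_mono (Ideal.pow_right_mono hxa _) (Ideal.mul_mono hKs (Ideal.pow_right_mono hsa _))).trans ?_
      rw [show a ^ m * (b * a ^ (K - 1) * a ^ e) = b * (a ^ (K - 1) * (a ^ m * a ^ e)) by ring,
        ← pow_add, ← pow_add, show K - 1 + (m + e) = n + K - 1 by omega]

variable [IsNoetherianRing A]

theorem exists_reduction {a b : Ideal A} (hba : b ≤ a)
    (hint : ∀ x ∈ a, ∃ n : ℕ, 0 < n ∧ ∃ c : Fin n → A,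
      (∀ i : Fin n, c i ∈ b ^ ((i : ℕ) + 1)) ∧ x ^ n + ∑ i : Fin n, c i * x ^ (n - 1 - (i : ℕ)) = 0) :
    ∃ K, ∀ m, a ^ (m + K) ≤ b ^ m := by
  obtain ⟨s, hs⟩ := IsNoetherian.noetherian a
  have hsa : ∀ x ∈ s, x ∈ a := fun x hx => hs ▸ Submodule.subset_span hx
  obtain ⟨K, hK, hKa⟩ := exists_reduction_step (a := a) (b := b) s hsa fun x hx => by
    obtain ⟨n, hn, c, hc, he⟩ := hint x (hsa x hx)
    exact ⟨n, hn, span_pow_le_of_eqn hba (hsa x hx) hc he⟩
  rw [show Ideal.span (s : Set A) = a from hs] at hKa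
  refine ⟨K, fun m => ?_⟩
  suffices h : a ^ (m + (K - 1)) ≤ b ^ m * a ^ (K - 1) from
    (Ideal.pow_le_pow_right (by omega)).trans (h.trans Ideal.mul_le_left)
  induction m with
  | zero => simp
  | succ m ih =>
    rw [show m + 1 + (K - 1) = (m + (K - 1)) + 1 by omega, pow_succ]
    refine (Ideal.mul_mono ih le_rfl).trans ?_
    rw [mul_assoc, ← pow_succ, show K - 1 + 1 = K by omega, pow_succ b m, mul_assoc]
    exact Ideal.mul_mono le_rfl hKa

variable [IsLocalRing A]

theorem tendsto_samuel_reduction (d : ℕ) (hd : ringKrullDim A = d) (a b : Ideal A) (hba : b ≤ a)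
    (ha : a ≤ IsLocalRing.maximalIdeal A) {N : ℕ} (hb : IsLocalRing.maximalIdeal A ^ N ≤ b)
    (hint : ∀ x ∈ a, ∃ n : ℕ, 0 < n ∧ ∃ c : Fin n → A,
      (∀ i : Fin n, c i ∈ b ^ ((i : ℕ) + 1)) ∧ x ^ n + ∑ i : Fin n, c i * x ^ (n - 1 - (i : ℕ)) = 0) :
    Tendsto (fun m : ℕ => (((Module.length A (A ⧸ b ^ m)).toNat : ℝ) -
        ((Module.length A (A ⧸ a ^ m)).toNat : ℝ)) / (m : ℝ) ^ d) atTop (𝓝 0) := by
  obtain ⟨K, hK⟩ := exists_reduction hba hint
  obtain ⟨L, -, hL⟩ := exists_lim a (hb.trans hba) ha A d (by rw [Module.supportDim_self_eq_ringKrullDim, hd])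
  have h0 : Tendsto (fun m : ℕ => ((hs a A (m + K) : ℝ) - (hs a A m : ℝ)) / (m : ℝ) ^ d) atTop (𝓝 0) := by
    simpa [sub_div] using (tendsto_shift hL K).sub hL
  simp only [← hs_self]
  have hmax := maxSupp_of_pow_le hb A
  refine squeeze_zero (fun m => div_nonneg (sub_nonneg.2 (by exact_mod_cast hs_mono hba hmax m)) (by positivity))
    (fun m => ?_) h0
  have hle : hs b A m ≤ hs a A (m + K) := by
    rw [hs_self, hs_self]
    exact ENat.toNat_le_toNat (Module.length_le_of_surjective (Submodule.factor (hK m))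
      (Submodule.factor_surjective (hK m)))
      (length_quot_ne_top (M := A) (maxSupp_of_pow_le (hb.trans hba) A) (t := m + K) (by rw [smul_eq_mul, Ideal.mul_top]))
  gcongr

theorem exists_ideal_flatMult_ge (r : ℕ) (hr : ringKrullDim A = r) (ε : ℝ) (hε : 0 < ε) :
    ∃ (I : Ideal A) (e : ℝ), I ≤ IsLocalRing.maximalIdeal A ∧
      (∃ N : ℕ, IsLocalRing.maximalIdeal A ^ N ≤ I) ∧
      Tendsto (fun n : ℕ => (r.factorial : ℝ) * ((Module.length A (A ⧸ I ^ n)).toNat : ℝ) / (n : ℝ) ^ r)
        atTop (nhds e) ∧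
      (1 - ε) * ((r.factorial : ℝ) * ((Module.length A (A ⧸ I)).toNat : ℝ)) ≤ e := by
  obtain ⟨L, hLpos, hL⟩ := exists_lim_pos (IsLocalRing.maximalIdeal A) (n := 1) (pow_one _).le le_rfl A r
    (by rw [Module.supportDim_self_eq_ringKrullDim, hr])
  have h1 : ∀ᶠ t : ℕ in atTop, (1 - ε) * ((hs (IsLocalRing.maximalIdeal A) A t : ℝ) / (t : ℝ) ^ r) < L :=
    (hL.const_mul (1 - ε)).eventually (eventually_lt_nhds (by nlinarith))
  obtain ⟨N, hN, hN0⟩ := (h1.and (eventually_gt_atTop 0)).exists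
  refine ⟨IsLocalRing.maximalIdeal A ^ N, (r.factorial : ℝ) * ((N : ℝ) ^ r * L), Ideal.pow_le_self (by omega),
    ⟨N, le_rfl⟩, ?_, ?_⟩
  · refine (((tendsto_mul_arg hL hN0).const_mul (r.factorial : ℝ))).congr fun t => ?_
    rw [hs_self, ← pow_mul, mul_div_assoc]
  · have hpos : (0 : ℝ) < (N : ℝ) ^ r := pow_pos (by exact_mod_cast hN0) r
    rw [hs_self, mul_div_assoc', div_lt_iff₀ hpos] at hN
    calc _ = (r.factorial : ℝ) * ((1 - ε) * ((Module.length A (A ⧸ IsLocalRing.maximalIdeal A ^ N)).toNat : ℝ)) := by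
          ring
      _ ≤ (r.factorial : ℝ) * ((N : ℝ) ^ r * L) := by
          refine mul_le_mul_of_nonneg_left ?_ (by positivity)
          linarith

omit [IsNoetherianRing A] [IsLocalRing A] in
theorem span_pow_card_le [DecidableEq A] (q : ℕ) (s : Finset A) :
    Ideal.span (s : Set A) ^ (s.card * q + 1) ≤ Ideal.span ((s.image fun x => x ^ q : Finset A) : Set A) := by
  induction s using Finset.induction with
  | empty => simp
  | insert x s hxs ih =>
    rw [Finset.card_insert_of_notMem hxs, show (s.card + 1) * q + 1 = q + (s.card * q + 1) by ring,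
      Finset.coe_insert, Ideal.span_insert]
    refine Ideal.sup_pow_add_le_pow_sup_pow.trans (sup_le ?_ (ih.trans (Ideal.span_mono ?_)))
    · rw [Ideal.span_singleton_pow, Ideal.span_singleton_le_iff_mem]
      exact Ideal.subset_span (by simp)
    · simp only [Finset.coe_image]
      exact Set.image_mono (Finset.coe_subset.2 (Finset.subset_insert x s))

omit [IsNoetherianRing A] [IsLocalRing A] in
/-- The length of the part of `A ⧸ P` cut out by elements killed by `K`. -/
theorem length_le_of_generators (K P Q : Ideal A) (hPQ : P ≤ Q) (s : Finset A)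
    (hs : Ideal.span (s : Set A) = Q) (hK : ∀ g ∈ s, ∀ k ∈ K, k * g ∈ P) :
    Module.length A (A ⧸ P) ≤ (s.card : ℕ∞) * Module.length A (A ⧸ K) + Module.length A (A ⧸ Q) := by
  let φ : (s → A ⧸ K) →ₗ[A] A ⧸ P := ∑ g : s,
    (K.liftQ (LinearMap.toSpanSingleton A (A ⧸ P) (Ideal.Quotient.mk P g.1)) fun k hk => by
      rw [LinearMap.mem_ker, LinearMap.toSpanSingleton_apply]
      show Ideal.Quotient.mk P (k * g.1) = 0
      exact Ideal.Quotient.eq_zero_iff_mem.2 (hK g.1 g.2 k hk)) ∘ₗ LinearMap.proj g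
  have hker : LinearMap.ker (Submodule.factor hPQ) ≤ LinearMap.range φ := by
    intro z hz
    obtain ⟨z, rfl⟩ := Submodule.Quotient.mk_surjective _ z
    rw [LinearMap.mem_ker, Submodule.factor, Submodule.mapQ_apply, Submodule.Quotient.mk_eq_zero] at hz
    have hz' : z ∈ Submodule.span A (Set.range fun g : s => g.1) := by
      rw [show (Set.range fun g : s => g.1) = (s : Set A) from Subtype.range_coe]
      change z ∈ Ideal.span (s : Set A)
      rwa [hs]
    obtain ⟨c, rfl⟩ := (Submodule.mem_span_range_iff_exists_fun A).1 hz'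
    refine ⟨fun g => Ideal.Quotient.mk K (c g), ?_⟩
    simp only [φ, LinearMap.sum_apply, LinearMap.comp_apply, LinearMap.proj_apply]
    rw [← Submodule.mkQ_apply, map_sum]
    exact Finset.sum_congr rfl fun g _ => rfl
  have h1 : Module.length A (A ⧸ P) =
      Module.length A (LinearMap.ker (Submodule.factor hPQ)) + Module.length A (A ⧸ Q) :=
    Module.length_eq_add_of_exact _ _ Subtype.val_injective (Submodule.factor_surjective hPQ)
      (LinearMap.exact_subtype_ker_map _)
  rw [h1]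
  refine add_le_add ?_ le_rfl
  refine (Module.length_le_of_injective _ (Submodule.inclusion_injective hker)).trans
    ((Module.length_le_of_surjective φ.rangeRestrict φ.surjective_rangeRestrict).trans ?_)
  rw [Module.length_pi_of_fintype, Finset.sum_const, Finset.card_univ, Fintype.card_coe, nsmul_eq_mul]

theorem tendsto_tightClosure [IsDomain A] (p : ℕ) [hp : Fact p.Prime] [CharP A p] (d : ℕ) (hd : ringKrullDim A = d)
    (a b : Ideal A) (hab : a ≤ b) (hb : b ≤ IsLocalRing.maximalIdeal A) {N : ℕ}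
    (ha : IsLocalRing.maximalIdeal A ^ N ≤ a)
    (htc : ∀ x ∈ b, (∃ c : A, c ≠ 0 ∧ ∀ e : ℕ, c * x ^ (p ^ e) ∈ Ideal.map (iterateFrobenius A p e) a)) :
    Tendsto (fun e : ℕ => (((Module.length A (A ⧸ Ideal.map (iterateFrobenius A p e) a)).toNat : ℝ) -
        ((Module.length A (A ⧸ Ideal.map (iterateFrobenius A p e) b)).toNat : ℝ)) / (p : ℝ) ^ (d * e))
      atTop (𝓝 0) := by
  classical
  rcases Nat.eq_zero_or_pos d with rfl | hd0
  · have hm : IsLocalRing.maximalIdeal A = ⊥ := by
      have h0 : Ring.KrullDimLE 0 A := Ring.krullDimLE_iff.2 hd.le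
      exact (IsLocalRing.eq_maximalIdeal (Ring.krullDimLE_zero_iff.1 h0 ⊥ Ideal.isPrime_bot)).symm
    have hba : b = a := le_antisymm (le_trans hb (hm ▸ bot_le)) hab
    subst hba
    simp
  obtain ⟨sb, hsb⟩ := IsNoetherian.noetherian b
  obtain ⟨sa, hsa⟩ := IsNoetherian.noetherian a
  replace hsb : Ideal.span (sb : Set A) = b := hsb
  replace hsa : Ideal.span (sa : Set A) = a := hsa
  have hmem : ∀ g : sb, g.1 ∈ b := fun g => hsb ▸ Ideal.subset_span g.2
  choose cf hcf0 hcf using fun g : sb => htc g.1 (hmem g)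
  set c := ∏ g : sb, cf g with hcdef
  have hc0 : c ≠ 0 := Finset.prod_ne_zero_iff.2 fun g _ => hcf0 g
  obtain ⟨j, hj, hjd⟩ : ∃ j : ℕ, Module.supportDim A (QuotSMulTop c A) ≤ (j : WithBot ℕ∞) ∧ j + 1 = d := by
    refine ⟨d - 1, ?_, by omega⟩
    have h := Module.supportDim_quotSMulTop_succ_le_of_notMem_minimalPrimes (M := A) (x := c) fun q hq => by
      haveI : (⊥ : Ideal A).IsPrime := Ideal.isPrime_bot
      rw [Module.annihilator_eq_bot.2 inferInstance, Ideal.minimalPrimes_eq_subsingleton_self] at hq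
      rw [Set.mem_singleton_iff.1 hq, Ideal.mem_bot]
      exact hc0
    rw [Module.supportDim_self_eq_ringKrullDim, hd] at h
    obtain ⟨k, rfl⟩ : ∃ k, d = k + 1 := ⟨d - 1, by omega⟩
    revert h
    generalize Module.supportDim A (QuotSMulTop c A) = s
    intro h
    induction s using WithBot.recBotCoe with
    | bot => exact bot_le
    | coe s =>
      rw [show (1 : WithBot ℕ∞) = ((1 : ℕ∞) : WithBot ℕ∞) from rfl, ← WithBot.coe_add,
        show ((k + 1 : ℕ) : WithBot ℕ∞) = (((k + 1 : ℕ) : ℕ∞) : WithBot ℕ∞) from rfl, WithBot.coe_le_coe] at h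
      induction s using ENat.recTopCoe with
      | top => simp at h
      | coe s =>
        have : s + 1 ≤ k + 1 := by exact_mod_cast h
        exact_mod_cast (show s ≤ k + 1 - 1 by omega)
  obtain ⟨R, hRdeg, hR⟩ := exists_poly_le a ha (hab.trans hb) (QuotSMulTop c A) j hj
  have hlim := tendsto_of_evPoly hR j hRdeg
  set μ := sa.card + 1
  have hμ : 0 < μ := Nat.succ_pos _
  have hp1 : 1 < p := hp.out.one_lt
  have hat : Tendsto (fun e : ℕ => μ * p ^ e) atTop atTop :=
    tendsto_atTop_mono (fun e => (Nat.lt_pow_self hp1).le.trans (Nat.le_mul_of_pos_left _ hμ)) tendsto_id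
  let B : ℕ → ℝ := fun e => (sb.card : ℝ) * (hs a (QuotSMulTop c A) (μ * p ^ e) : ℝ) / (p : ℝ) ^ (d * e)
  have hB : Tendsto B atTop (𝓝 0) := by
    have h1 : Tendsto (fun e : ℕ => ((1 : ℝ) / p) ^ e) atTop (𝓝 0) :=
      tendsto_pow_atTop_nhds_zero_of_lt_one (by positivity)
        (by rw [div_lt_one (by positivity)]; exact_mod_cast hp1)
    have h2 := (((hlim.comp hat).const_mul ((sb.card : ℝ) * (μ : ℝ) ^ j)).mul h1)
    rw [mul_zero] at h2
    refine h2.congr fun e => ?_
    simp only [B, Function.comp, ← hjd]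
    have : (p : ℝ) ≠ 0 := by positivity
    have : (μ : ℝ) ≠ 0 := by positivity
    push_cast
    rw [mul_pow, div_pow, one_pow, pow_mul, pow_add, pow_one, mul_pow, ← pow_mul, ← pow_mul, mul_comm e j]
    field_simp
  refine squeeze_zero' (Eventually.of_forall fun e => ?_) (Eventually.of_forall fun e => ?_) hB
  all_goals
    set F := iterateFrobenius A p e
    have hpow : a ^ (μ * p ^ e) ≤ a.map F := by
      refine (Ideal.pow_le_pow_right (show sa.card * p ^ e + 1 ≤ μ * p ^ e by
        have : 1 ≤ p ^ e := Nat.one_le_pow _ _ (by omega)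
        simp only [μ, add_mul, one_mul]; omega)).trans ?_
      rw [← hsa]
      refine (span_pow_card_le (p ^ e) sa).trans (Ideal.span_le.2 ?_)
      simp only [Finset.coe_image]
      rintro _ ⟨x, hx, rfl⟩
      have hx' := Ideal.mem_map_of_mem F (Ideal.subset_span hx : x ∈ Ideal.span (sa : Set A))
      rwa [iterateFrobenius_def] at hx'
    have hfin : ∀ P : Ideal A, a.map F ≤ P → Module.length A (A ⧸ P) ≠ ⊤ := fun P hP =>
      length_quot_ne_top (M := A) (maxSupp_of_pow_le ha A) (t := μ * p ^ e)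
        (by rw [smul_eq_mul, Ideal.mul_top]; exact hpow.trans hP)
  · refine div_nonneg (sub_nonneg.2 ?_) (by positivity)
    exact_mod_cast ENat.toNat_le_toNat (Module.length_le_of_surjective (Submodule.factor (Ideal.map_mono hab))
      (Submodule.factor_surjective _)) (hfin _ le_rfl)
  · refine div_le_div_of_nonneg_right ?_ (by positivity)
    set K : Ideal A := Ideal.span {c} ⊔ a ^ (μ * p ^ e)
    have hlen := length_le_of_generators K (a.map F) (b.map F) (Ideal.map_mono hab) (sb.image F)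
      (by rw [Finset.coe_image, ← Ideal.map_span, hsb]) fun g hg k hk => by
        obtain ⟨y, hy, rfl⟩ := Finset.mem_image.1 hg
        obtain ⟨u, hu, w, hw, rfl⟩ := Submodule.mem_sup.1 hk
        obtain ⟨v, rfl⟩ := Ideal.mem_span_singleton'.1 hu
        rw [add_mul]
        refine add_mem ?_ (Ideal.mul_mem_right _ _ (hpow hw))
        rw [mul_assoc, hcdef, ← Finset.mul_prod_erase _ _ (Finset.mem_univ (⟨y, hy⟩ : sb)), iterateFrobenius_def]
        refine Ideal.mul_mem_left _ _ ?_
        rw [mul_right_comm]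
        exact Ideal.mul_mem_right _ _ (hcf ⟨y, hy⟩ e)
    have hKlen : Module.length A (A ⧸ K) ≤
        Module.length A (QuotSMulTop c A ⧸ (a ^ (μ * p ^ e) • (⊤ : Submodule A (QuotSMulTop c A)))) := by
      refine Module.length_le_of_surjective (Submodule.liftQ _ (Submodule.liftQ _ K.mkQ ?_) ?_) ?_
      · rintro _ ⟨z, -, rfl⟩
        rw [LinearMap.mem_ker, Submodule.mkQ_apply, Submodule.Quotient.mk_eq_zero]
        exact Submodule.mem_sup_left (Ideal.mem_span_singleton'.2 ⟨z, mul_comm _ _⟩)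
      · refine Submodule.smul_le.2 fun r hr z _ => ?_
        obtain ⟨z, rfl⟩ := Submodule.mkQ_surjective _ z
        rw [LinearMap.mem_ker, map_smul, Submodule.mkQ_apply, Submodule.liftQ_apply, Submodule.mkQ_apply,
          ← Submodule.Quotient.mk_smul, Submodule.Quotient.mk_eq_zero]
        exact Submodule.mem_sup_right (Ideal.mul_mem_right _ _ hr)
      · intro z
        obtain ⟨z, rfl⟩ := Submodule.mkQ_surjective _ z
        exact ⟨Submodule.Quotient.mk (Submodule.Quotient.mk z), rfl⟩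
    have hQfin : Module.length A (QuotSMulTop c A ⧸ (a ^ (μ * p ^ e) • (⊤ : Submodule A (QuotSMulTop c A)))) ≠ ⊤ :=
      length_quot_ne_top (maxSupp_of_pow_le ha _) le_rfl
    have h3 : (Module.length A (A ⧸ a.map F)).toNat ≤
        sb.card * hs a (QuotSMulTop c A) (μ * p ^ e) + (Module.length A (A ⧸ b.map F)).toNat := by
      have h4 : Module.length A (A ⧸ a.map F) ≤ (sb.card : ℕ∞) *
          (hs a (QuotSMulTop c A) (μ * p ^ e) : ℕ∞) + ((Module.length A (A ⧸ b.map F)).toNat : ℕ∞) := by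
        rw [hs, ENat.natCast_toNat hQfin, ENat.natCast_toNat (hfin _ (Ideal.map_mono hab))]
        exact hlen.trans (add_le_add (mul_le_mul' (Nat.cast_le.2 Finset.card_image_le) hKlen) le_rfl)
      rw [← Nat.cast_mul, ← Nat.cast_add] at h4
      exact (ENat.toNat_le_toNat h4 (ENat.natCast_ne_top _)).trans_eq (ENat.toNat_natCast _)
    rw [sub_le_iff_le_add]
    exact_mod_cast h3

end Groth.Agent.GrLib8.Samuel
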