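import Groth.Agent.GrLib8.Samuel.Colength
import Groth.Agent.GrLib8.Samuel.Reduction
import Groth.Agent.IdealRedLib.Basic
import Groth.Agent.HSLib.Regular
import Groth.Agent.Hensel.HenselizationLoc
import Mathlib.RingTheory.LocalRing.Length

/-!
# Reductions of the maximal ideal and Lech's inequality
-/

set_option autoImplicit false
set_option linter.style.haveILetI false

universe u

open Filter Topology IsLocalRing MvPolynomial
open Groth.Agent.HSLib
open scoped TensorProduct

namespace Groth.Agent.GrLib8.Samuel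

section Count

variable {A : Type u} [CommRing A] [IsNoetherianRing A] [IsLocalRing A]

omit [IsNoetherianRing A] in
/-- Independent elements give large graded pieces. -/
theorem choose_le_qlen {s : ℕ} (v : Fin s → A) (hv : ∀ i, v i ∈ maximalIdeal A)
    (hind : IdealRedLib.Indep (maximalIdeal A) v) (h : ℕ) :
    (((s + h - 1).choose h : ℕ) : ℕ∞) ≤
      qlen (maximalIdeal A ^ h • (⊤ : Submodule A A)) (maximalIdeal A ^ (h + 1) • (⊤ : Submodule A A)) := by
  classical
  set m := maximalIdeal A with hmdef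
  let H := homogeneousSubmodule (Fin s) A h
  let ev : MvPolynomial (Fin s) A →ₗ[A] A := (aeval v : MvPolynomial (Fin s) A →ₐ[A] A).toLinearMap
  let N₁ : Submodule A A := m ^ h • (⊤ : Submodule A A)
  let N₂ : Submodule A A := m ^ (h + 1) • (⊤ : Submodule A A)
  have hev : ∀ P ∈ H, ev P ∈ N₁ := by
    intro P hP
    show aeval v P ∈ N₁
    rw [show N₁ = (m ^ h : Ideal A) from (smul_eq_mul _ _).trans (Ideal.mul_top _), P.as_sum, map_sum]
    refine Ideal.sum_mem _ fun d hd => ?_
    have hdeg : d.degree = h := by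
      have := (hP : P.IsHomogeneous h) (mem_support_iff.mp hd)
      rw [Finsupp.degree_eq_weight_one]; exact this
    rw [aeval_monomial, Finsupp.prod, ← hdeg, show d.degree = ∑ i ∈ d.support, d i from rfl,
      ← Finset.prod_pow_eq_pow_sum]
    exact Ideal.mul_mem_left _ _ (Ideal.prod_mem_prod fun i _ => Ideal.pow_mem_pow (hv i) _)
  let g : H →ₗ[A] N₁ := (ev.comp H.subtype).codRestrict N₁ fun P => hev P P.2
  let q : H →ₗ[A] N₁ ⧸ N₂.comap N₁.subtype := (N₂.comap N₁.subtype).mkQ ∘ₗ g
  let c : H →ₗ[A] ({d : Fin s →₀ ℕ // d.degree = h} → ResidueField A) :=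
    LinearMap.pi fun d => (Algebra.linearMap A (ResidueField A)) ∘ₗ (lcoeff A d.1) ∘ₗ H.subtype
  haveI : Finite {d : Fin s →₀ ℕ // d.degree = h} := by
    refine Finite.of_equiv ((Finset.univ : Finset (Fin s)).finsuppAntidiag h) (Equiv.subtypeEquivRight
      fun d => by simp [Finset.mem_finsuppAntidiag, Finsupp.degree_eq_sum])
  haveI := Fintype.ofFinite {d : Fin s →₀ ℕ // d.degree = h}
  have hc : Function.Surjective c := fun z => by
    choose z' hz' using fun d => Ideal.Quotient.mk_surjective (I := m) (z d)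
    refine ⟨⟨∑ d, monomial d.1 (z' d), Submodule.sum_mem _ fun d _ => isHomogeneous_monomial _ d.2⟩, ?_⟩
    funext e
    have : (∑ d, monomial d.1 (z' d)).coeff e.1 = z' e := by
      rw [coeff_sum, Finset.sum_eq_single e (fun d _ hd => by
        rw [coeff_monomial, if_neg (fun h => hd (Subtype.ext h))]) (by simp), coeff_monomial, if_pos rfl]
    show algebraMap A (ResidueField A) ((∑ d, monomial d.1 (z' d)).coeff e.1) = z e
    rw [this]
    exact hz' e
  have hker : LinearMap.ker q ≤ LinearMap.ker c := by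
    rintro ⟨P, hP⟩ hq
    simp only [q, LinearMap.mem_ker, LinearMap.comp_apply, Submodule.mkQ_apply, Submodule.Quotient.mk_eq_zero,
      Submodule.mem_comap] at hq
    change aeval v P ∈ N₂ at hq
    rw [show N₂ = (m ^ (h + 1) : Ideal A) from (smul_eq_mul _ _).trans (Ideal.mul_top _), pow_succ,
      aeval_eq_eval] at hq
    funext d
    show Ideal.Quotient.mk m (P.coeff d.1) = 0
    exact Ideal.Quotient.eq_zero_iff_mem.2 (hind h P hP hq d.1)
  have hlen := (Module.length_le_of_surjective (Submodule.factor hker) (Submodule.factor_surjective hker)).trans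
    ((LinearMap.quotKerEquivRange q).length_eq.le.trans
      (Module.length_le_of_injective (LinearMap.range q).subtype Subtype.val_injective))
  rw [(LinearMap.quotKerEquivOfSurjective c hc).length_eq, Module.length_pi, length_residueField, mul_one,
    ENat.card_eq_coe_fintype_card, ← Nat.card_eq_fintype_card, card_degree_eq] at hlen
  exact hlen

/-- Independent elements in the maximal ideal are at most as many as the dimension. -/
theorem card_le_dim_of_indep {s r : ℕ} (hr : ringKrullDim A ≤ (r : WithBot ℕ∞)) (v : Fin s → A)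
    (hv : ∀ i, v i ∈ maximalIdeal A) (hind : IdealRedLib.Indep (maximalIdeal A) v) : s ≤ r := by
  by_contra hsr
  set m := maximalIdeal A
  have hmax : MaxSupp m A := maxSupp_of_pow_le (n := 1) (pow_one m).le A
  have hne : ∀ h, Module.length A (A ⧸ (m ^ h • (⊤ : Submodule A A))) ≠ ⊤ := fun h => length_quot_ne_top hmax le_rfl
  have hstep : ∀ h : ℕ, ((s + h).choose h : ℕ) ≤ hs m A (h + 1) := by
    intro h
    induction h with
    | zero =>
      rw [Nat.choose_zero_right]
      exact hs_pos hmax (IsLocalRing.ringJacobson_eq_maximalIdeal (R := A)).ge le_rfl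
    | succ h ih =>
      have hsplit := length_quot_eq_add (N₁ := m ^ (h + 1) • (⊤ : Submodule A A))
        (N₂ := m ^ (h + 1 + 1) • (⊤ : Submodule A A)) (Submodule.smul_mono_left (Ideal.pow_le_pow_right (by omega)))
      have hq := choose_le_qlen v hv hind (h + 1)
      have hqfin : qlen (m ^ (h + 1) • (⊤ : Submodule A A)) (m ^ (h + 1 + 1) • (⊤ : Submodule A A)) ≠ ⊤ :=
        fun e => hne (h + 1 + 1) (by rw [hsplit, e, top_add])
      have h2 := ENat.toNat_le_toNat hq hqfin
      rw [ENat.toNat_natCast] at h2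
      have h3 : hs m A (h + 1 + 1) =
          (qlen (m ^ (h + 1) • (⊤ : Submodule A A)) (m ^ (h + 1 + 1) • (⊤ : Submodule A A))).toNat + hs m A (h + 1) := by
        rw [hs, hs, hsplit, ENat.toNat_add hqfin (hne _)]
      have h4 : (s + (h + 1)).choose (h + 1) = (s + h).choose h + (s + (h + 1) - 1).choose (h + 1) := by
        rw [show s + (h + 1) = (s + h).succ by omega, Nat.choose_succ_succ', show (s + h).succ - 1 = s + h by omega]
      rw [show m = maximalIdeal A from rfl] at h3 ih ⊢
      omega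
  obtain ⟨L, -, hL⟩ := exists_lim m (n := 1) (pow_one m).le le_rfl A r
    (by rw [Module.supportDim_self_eq_ringKrullDim]; exact hr)
  have hbound : ∀ h : ℕ, 0 < h → (h : ℝ) / (((r + 1).factorial : ℝ) * 2 ^ r) ≤
      (hs m A (h + 1) : ℝ) / ((h + 1 : ℕ) : ℝ) ^ r := by
    intro h hh
    have h1 : (((h + r + 1) + 1 - (r + 1) : ℕ) : ℝ) ^ (r + 1) / ((r + 1).factorial : ℝ) ≤
        ((h + r + 1).choose (r + 1) : ℝ) := by
      exact_mod_cast Nat.pow_le_choose (α := ℝ) (r + 1) (h + r + 1)
    have h2 : (h + r + 1).choose (r + 1) ≤ hs m A (h + 1) := by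
      refine le_trans ?_ (hstep h)
      rw [show h + r + 1 = h + (r + 1) by ring, ← Nat.choose_symm_add]
      exact Nat.choose_le_choose h (by omega)
    have h3 : (h : ℝ) ≤ ((h + r + 1) + 1 - (r + 1) : ℕ) := by exact_mod_cast (show h ≤ h + r + 1 + 1 - (r + 1) by omega)
    have h2' : ((h + r + 1).choose (r + 1) : ℝ) ≤ (hs m A (h + 1) : ℝ) := by exact_mod_cast h2
    have h4 : (h : ℝ) ^ (r + 1) / ((r + 1).factorial : ℝ) ≤ (hs m A (h + 1) : ℝ) :=
      (le_trans (div_le_div_of_nonneg_right (pow_le_pow_left₀ (Nat.cast_nonneg h) h3 _) (by positivity)) h1).trans h2'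
    have h5 : ((h + 1 : ℕ) : ℝ) ^ r ≤ (2 * (h : ℝ)) ^ r := by
      refine pow_le_pow_left₀ (by positivity) ?_ r
      exact_mod_cast (show h + 1 ≤ 2 * h by omega)
    have hpos : (0 : ℝ) < (h : ℝ) := by exact_mod_cast hh
    refine le_trans ?_ (div_le_div_of_nonneg_left (Nat.cast_nonneg _) (by positivity) h5)
    refine le_trans (le_of_eq ?_) (div_le_div_of_nonneg_right h4 (by positivity))
    rw [mul_pow, pow_succ]
    field_simp
  have htop : Tendsto (fun h : ℕ => (hs m A (h + 1) : ℝ) / ((h + 1 : ℕ) : ℝ) ^ r) atTop atTop := by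
    refine tendsto_atTop_mono' atTop ?_ (tendsto_natCast_atTop_atTop.atTop_div_const
      (show (0 : ℝ) < ((r + 1).factorial : ℝ) * 2 ^ r by positivity))
    filter_upwards [eventually_gt_atTop 0] with h hh using hbound h hh
  exact not_tendsto_nhds_of_tendsto_atTop htop L (hL.comp (tendsto_add_atTop_nat 1))

end Count

open Groth.Agent.GrLib8.KChi in
/-- Lech's inequality when the residue field is infinite. -/
theorem lech_of_infinite (A : Type u) [CommRing A] [IsNoetherianRing A] [IsLocalRing A]
    (hinf : Infinite (ResidueField A)) (r : ℕ) (hr : ringKrullDim A = r) (I : Ideal A) {n₀ : ℕ}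
    (hI : maximalIdeal A ^ n₀ ≤ I) (hI' : I ≤ maximalIdeal A) (eI eA : ℝ)
    (heI : Tendsto (fun t : ℕ => (r.factorial : ℝ) * (hs I A t : ℝ) / (t : ℝ) ^ r) atTop (𝓝 eI))
    (heA : Tendsto (fun t : ℕ => (r.factorial : ℝ) * (hs (maximalIdeal A) A t : ℝ) / (t : ℝ) ^ r) atTop (𝓝 eA)) :
    eI ≤ (r.factorial : ℝ) * eA * ((Module.length A (A ⧸ I)).toNat : ℝ) := by
  set m := maximalIdeal A
  have hmne : m ≠ ⊤ := (maximalIdeal.isMaximal A).ne_top
  obtain ⟨a, -, ha, -⟩ := IdealRedLib.exists_isMinimalReduction (IdealRedLib.refl m)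
  obtain ⟨S, hcard, hS⟩ := (IsNoetherian.noetherian a).exists_span_finset_card_eq_spanFinrank
  let w : Fin a.spanFinrank → A := fun j => (S.equivFinOfCardEq hcard).symm j
  have hw : Ideal.span (Set.range w) = a := by
    have hwS : Set.range w = (S : Set A) := by
      ext x
      exact ⟨fun ⟨j, hj⟩ => hj ▸ ((S.equivFinOfCardEq hcard).symm j).2,
        fun hx => ⟨S.equivFinOfCardEq hcard ⟨x, hx⟩, by simp [w]⟩⟩
    rw [hwS]; exact hS
  have hwm : ∀ i, w i ∈ m := fun i => ha.1.1 (hw ▸ Ideal.subset_span ⟨i, rfl⟩)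
  obtain ⟨ham, k, hk⟩ := ha.1
  have hpow : m ^ (k + 1) ≤ a := hk ▸ Ideal.mul_le_left
  let l := List.ofFn w
  have hl : ∀ x ∈ l, x ∈ m := fun y hy => by obtain ⟨i, rfl⟩ := List.mem_ofFn.1 hy; exact hwm i
  have hla : Ideal.ofList l = a := by rw [← KChi.span_range_eq_ofList, hw]
  have hFL : FL (ModuleCat.of A A) l := fun P hP => PrimeSpectrum.ext
    ((maximalIdeal.isMaximal A).eq_of_le P.2.ne_top (P.2.le_of_pow_le
      (hpow.trans (hla ▸ le_sup_right.trans hP)))).symm
  have hlen : l.length = r := by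
    rw [List.length_ofFn]
    refine le_antisymm (card_le_dim_of_indep hr.le w hwm
      (IdealRedLib.indep_of_isMinimalReduction hinf hmne ha hw rfl)) ?_
    have h := (dimSpec l hl A hFL).1
    rw [Module.supportDim_self_eq_ringKrullDim, hr, List.length_ofFn] at h
    exact_mod_cast h
  have hma : maximalIdeal A ^ (k + 1) ≤ a := hpow
  obtain ⟨L, -, hL⟩ := exists_lim m (n := 1) (pow_one m).le le_rfl A r
    (by rw [Module.supportDim_self_eq_ringKrullDim, hr])
  have hupper : ∀ t, hs a A t ≤ hs m A (t + k) := fun t => by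
    have hle : m ^ (t + k) • (⊤ : Submodule A A) ≤ a ^ t • ⊤ :=
      Submodule.smul_mono_left (by rw [← IdealRedLib.pow_mul_pow hk t]; exact Ideal.mul_le_left)
    exact ENat.toNat_le_toNat (Module.length_le_of_surjective (Submodule.factor hle) (Submodule.factor_surjective hle))
      (length_quot_ne_top (maxSupp_of_pow_le (n := 1) (pow_one m).le A) le_rfl)
  have ha_lim : Tendsto (fun t : ℕ => (hs a A t : ℝ) / (t : ℝ) ^ r) atTop (𝓝 L) :=
    tendsto_of_tendsto_of_tendsto_of_le_of_le hL (tendsto_shift hL k)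
      (fun t => div_le_div_of_nonneg_right (Nat.cast_le.2 (hs_mono ham (maxSupp_of_pow_le hma A) t)) (by positivity))
      (fun t => div_le_div_of_nonneg_right (Nat.cast_le.2 (hupper t)) (by positivity))
  have hchi := tendsto_chi l hl A hFL
  rw [hlen, hla] at hchi
  have hA : eA = (chi (ModuleCat.of A A) l : ℝ) := by
    have h1 : Tendsto (fun t : ℕ => (r.factorial : ℝ) * (hs a A t : ℝ) / (t : ℝ) ^ r) atTop (𝓝 eA) := by
      have h2 := (hL.const_mul (r.factorial : ℝ)).congr fun t => (mul_div_assoc _ _ _).symm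
      rw [tendsto_nhds_unique heA h2]
      exact (ha_lim.const_mul (r.factorial : ℝ)).congr fun t => (mul_div_assoc _ _ _).symm
    exact tendsto_nhds_unique h1 hchi
  have h := lim_le_chi_mul_colength l hl A hFL I n₀ hI hI' eI (by rw [hlen]; exact heI)
  rw [hlen, ← hA] at h
  linarith

/-- Lech's inequality. -/
theorem lech_inequality (O : Type u) [CommRing O] [IsNoetherianRing O] [IsLocalRing O] (r : ℕ)
    (hr : ringKrullDim O = r) (I : Ideal O) (hI' : I ≤ maximalIdeal O) {N : ℕ} (hI : maximalIdeal O ^ N ≤ I)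
    (eI eO : ℝ)
    (heI : Tendsto (fun n : ℕ => (r.factorial : ℝ) * ((Module.length O (O ⧸ I ^ n)).toNat : ℝ) / (n : ℝ) ^ r)
      atTop (𝓝 eI))
    (heO : Tendsto (fun n : ℕ => (r.factorial : ℝ) *
        ((Module.length O (O ⧸ maximalIdeal O ^ n)).toNat : ℝ) / (n : ℝ) ^ r) atTop (𝓝 eO)) :
    eI ≤ (r.factorial : ℝ) * eO * ((Module.length O (O ⧸ I)).toNat : ℝ) := by
  let P : Ideal (Polynomial O) := (maximalIdeal O).map Polynomial.C
  haveI : P.IsPrime := Ideal.isPrime_map_C_of_isPrime
  let B := Localization.AtPrime P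
  haveI : IsNoetherianRing B := IsLocalization.isNoetherianRing P.primeCompl _ inferInstance
  haveI : Module.Flat O B := Module.Flat.trans O (Polynomial O) B
  have hmB : (maximalIdeal O).map (algebraMap O B) = maximalIdeal B := by
    rw [IsScalarTower.algebraMap_eq O (Polynomial O) B, ← Ideal.map_map]
    exact Localization.AtPrime.map_eq_maximalIdeal
  haveI : IsLocalHom (algebraMap O B) := ((IsLocalRing.local_hom_TFAE (algebraMap O B)).out 0 2).2 hmB.le
  have hinf : Infinite (ResidueField B) := by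
    refine Infinite.of_injective (fun i : ℕ => residue B (algebraMap (Polynomial O) B (Polynomial.X ^ i))) ?_
    intro i j hij
    by_contra hne
    have h1 : algebraMap (Polynomial O) B (Polynomial.X ^ i - Polynomial.X ^ j) ∈ maximalIdeal B := by
      rw [map_sub]
      exact Ideal.Quotient.eq.1 hij
    have h2 := Ideal.mem_map_C_iff.1 ((IsLocalization.AtPrime.to_map_mem_maximal_iff B P _).1 h1) i
    rw [Polynomial.coeff_sub, Polynomial.coeff_X_pow_self, Polynomial.coeff_X_pow, if_neg hne, sub_zero] at h2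
    exact (maximalIdeal.isMaximal O).ne_top ((Ideal.eq_top_iff_one _).2 h2)
  have hlenB : ∀ J : Ideal O, Module.length B (B ⧸ J.map (algebraMap O B)) = Module.length O (O ⧸ J) := by
    intro J
    rw [(Algebra.TensorProduct.quotIdealMapEquivTensorQuot B J).toLinearEquiv.length_eq,
      IsLocalRing.length_baseChange, hmB, show Module.length B (B ⧸ maximalIdeal B) = 1 from length_residueField,
      mul_one]
  have hhs : ∀ (J : Ideal O) (t : ℕ), hs (J.map (algebraMap O B)) B t = (Module.length O (O ⧸ J ^ t)).toNat := by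
    intro J t
    rw [hs_self, ← Ideal.map_pow, hlenB]
  have hdim : ringKrullDim B = (r : WithBot ℕ∞) := (Hensel.ringKrullDim_eq_of_flat_of_map_maximalIdeal_eq hmB).trans hr
  have key := lech_of_infinite B hinf r hdim (I.map (algebraMap O B)) (n₀ := N)
    (by rw [← hmB, ← Ideal.map_pow]; exact Ideal.map_mono hI) ((Ideal.map_mono hI').trans hmB.le) eI eO
    (by simp only [hhs]; exact heI) (by rw [← hmB]; simp only [hhs]; exact heO)
  rwa [hlenB] at key

end Groth.Agent.GrLib8.Samuel
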