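import Groth.Agent.GrLib8.Samuel.Serre
import Groth.Agent.CycLib.SamuelAdd

/-!
# Multiplicity is bounded by colength
-/

set_option autoImplicit false
set_option linter.style.haveILetI false

universe u

open Filter Topology CategoryTheory
open Groth.Agent.HSLib
open scoped Pointwise

namespace Groth.Agent.GrLib8.Samuel

variable {A : Type u} [CommRing A]

theorem length_colon_step {M : Type u} [AddCommGroup M] [Module A M] (Q : Submodule A M) (x : A) :
    Module.length A (M ⧸ Q) = Module.length A (M ⧸ Q.comap (LinearMap.lsmul A M x)) +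
      Module.length A (M ⧸ (Q ⊔ x • (⊤ : Submodule A M))) := by
  refine Module.length_eq_add_of_exact (Submodule.mapQ _ Q (LinearMap.lsmul A M x) le_rfl)
    (Submodule.factor le_sup_left) ?_ (Submodule.factor_surjective _) ?_
  · rw [← LinearMap.ker_eq_bot, Submodule.ker_mapQ, Submodule.mkQ_map_self]
  · intro y
    obtain ⟨m, rfl⟩ := Submodule.Quotient.mk_surjective _ y
    constructor
    · intro h
      rw [Submodule.factor, Submodule.mapQ_apply, LinearMap.id_apply, Submodule.Quotient.mk_eq_zero] at h
      obtain ⟨q, hq, z, hz, rfl⟩ := Submodule.mem_sup.1 h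
      obtain ⟨w, -, rfl⟩ := (Submodule.mem_smul_pointwise_iff_exists _ _ _).1 hz
      refine ⟨Submodule.Quotient.mk w, ?_⟩
      rw [Submodule.mapQ_apply, Submodule.Quotient.eq]
      show x • w - (q + x • w) ∈ Q
      rw [sub_add_cancel_right]
      exact neg_mem hq
    · rintro ⟨z, hz⟩
      obtain ⟨w, rfl⟩ := Submodule.Quotient.mk_surjective _ z
      rw [← hz, Submodule.factor, Submodule.mapQ_apply, Submodule.mapQ_apply, LinearMap.id_apply,
        Submodule.Quotient.mk_eq_zero]
      exact Submodule.mem_sup_right (Submodule.smul_mem_pointwise_smul w x ⊤ trivial)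

/-- Iterated. -/
theorem length_colon_sum {M : Type u} [AddCommGroup M] [Module A M] (Q : Submodule A M) (x : A) (K : ℕ) :
    Module.length A (M ⧸ Q) = (∑ m ∈ Finset.range K,
      Module.length A (M ⧸ (Q.comap (LinearMap.lsmul A M (x ^ m)) ⊔ x • (⊤ : Submodule A M)))) +
        Module.length A (M ⧸ Q.comap (LinearMap.lsmul A M (x ^ K))) := by
  induction K with
  | zero =>
    rw [Finset.range_zero, Finset.sum_empty, zero_add]
    exact (Submodule.quotEquivOfEq Q (Q.comap (LinearMap.lsmul A M (x ^ 0))) (by ext z; simp)).length_eq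
  | succ K ih =>
    rw [ih, Finset.sum_range_succ, length_colon_step (Q.comap (LinearMap.lsmul A M (x ^ K))) x, add_assoc]
    refine congrArg (_ + ·) ?_
    rw [add_comm]
    refine congrArg (_ + ·) (Submodule.quotEquivOfEq _ _ ?_).length_eq
    ext z
    simp [smul_smul, pow_succ, mul_comm]

/-- Blocks of a sum. -/
theorem sum_range_mul_le {f g : ℕ → ℕ∞} (n : ℕ) (N : ℕ)
    (h : ∀ j < N, ∀ k < n, f (n * j + k) ≤ g j) :
    ∑ m ∈ Finset.range (n * N), f m ≤ (n : ℕ∞) * ∑ j ∈ Finset.range N, g j := by
  induction N with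
  | zero => simp
  | succ N ih =>
    rw [Nat.mul_succ, Finset.sum_range_add, Finset.sum_range_succ, mul_add]
    refine add_le_add (ih fun j hj => h j (by omega)) ?_
    refine (Finset.sum_le_card_nsmul _ _ (g N) fun k hk => h N (by omega) k (Finset.mem_range.1 hk)).trans ?_
    rw [Finset.card_range, nsmul_eq_mul]

/-- The ideals cut out on the hypersurface. -/
noncomputable def colonIdeal (I : Ideal A) (x : A) (j : ℕ) : Ideal A :=
  Submodule.comap (LinearMap.lsmul A A (x ^ j)) I ⊔ Ideal.span {x}

/-- The colengths add up. -/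
theorem sum_length_colonIdeal (I : Ideal A) (x : A) {N : ℕ} (hN : x ^ N ∈ I) :
    ∑ j ∈ Finset.range N, Module.length A (A ⧸ colonIdeal I x j) = Module.length A (A ⧸ I) := by
  have hbot : Subsingleton (A ⧸ Submodule.comap (LinearMap.lsmul A A (x ^ N)) I) := by
    rw [Submodule.Quotient.subsingleton_iff, eq_top_iff]
    exact fun z _ => I.mul_mem_right z hN
  rw [length_colon_sum I x N, Module.length_eq_zero (M := A ⧸ Submodule.comap (LinearMap.lsmul A A (x ^ N)) I),
    add_zero]
  refine Finset.sum_congr rfl fun j _ => (Submodule.quotEquivOfEq _ _ ?_).length_eq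
  refine congrArg (Submodule.comap (LinearMap.lsmul A A (x ^ j)) I ⊔ ·) ?_
  ext z
  simp only [Submodule.mem_smul_pointwise_iff_exists, Submodule.mem_top, true_and, smul_eq_mul]
  rw [Ideal.mem_span_singleton']
  exact ⟨fun ⟨a, ha⟩ => ⟨a, by rw [← ha, mul_comm]⟩, fun ⟨a, ha⟩ => ⟨a, by rw [← ha, mul_comm]⟩⟩

variable [IsNoetherianRing A] [IsLocalRing A]

/-- The Samuel function of a module through the hypersurface. -/
theorem hs_le_sum (I : Ideal A) {n₀ : ℕ} (hI : IsLocalRing.maximalIdeal A ^ n₀ ≤ I) (M : Type u)
    [AddCommGroup M] [Module A M] [Module.Finite A M] (x : A) {N : ℕ} (hN : x ^ N ∈ I) (n : ℕ) :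
    hs I M n ≤ n * ∑ j ∈ Finset.range N, hs (colonIdeal I x j) (QuotSMulTop x M) n := by
  let Q : Submodule A M := I ^ n • ⊤
  have hfin : ∀ j, Module.length A (QuotSMulTop x M ⧸ (colonIdeal I x j ^ n • (⊤ : Submodule A (QuotSMulTop x M)))) ≠ ⊤ :=
    fun j => length_quot_ne_top (maxSupp_of_pow_le (n := n₀) (hI.trans (le_sup_left.trans' fun z hz =>
      I.mul_mem_left _ hz)) _) le_rfl
  have hle : ∀ j < N, ∀ k < n, Module.length A
      (M ⧸ (Q.comap (LinearMap.lsmul A M (x ^ (n * j + k))) ⊔ x • (⊤ : Submodule A M))) ≤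
        Module.length A (QuotSMulTop x M ⧸ (colonIdeal I x j ^ n • (⊤ : Submodule A (QuotSMulTop x M)))) := by
    intro j _ k _
    let R := Q.comap (LinearMap.lsmul A M (x ^ (n * j + k))) ⊔ x • (⊤ : Submodule A M)
    have h1 : colonIdeal I x j ^ n • (⊤ : Submodule A (QuotSMulTop x M)) ≤
        Submodule.map (x • (⊤ : Submodule A M)).mkQ R := by
      have hkill : Ideal.span {x} ≤ Module.annihilator A (QuotSMulTop x M) := by
        rw [Ideal.span_singleton_le_iff_mem, Module.mem_annihilator]
        intro z
        obtain ⟨z, rfl⟩ := Submodule.mkQ_surjective _ z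
        rw [← map_smul, Submodule.mkQ_apply, Submodule.Quotient.mk_eq_zero]
        exact Submodule.smul_mem_pointwise_smul z x ⊤ trivial
      rw [colonIdeal, sup_comm, pow_smul_sup_of_kill hkill, ← LinearMap.range_eq_top.2 (Submodule.mkQ_surjective _),
        ← Submodule.map_top, ← Submodule.map_smul'']
      refine Submodule.map_mono (Submodule.smul_le.2 fun c hc w _ => Submodule.mem_sup_left ?_)
      have hcn : (x ^ j) ^ n * c ∈ I ^ n := by
        have : Ideal.span {x ^ j} * Submodule.comap (LinearMap.lsmul A A (x ^ j)) I ≤ I :=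
          Ideal.span_singleton_mul_le_iff.2 fun z hz => hz
        refine Ideal.pow_right_mono this n ?_
        rw [mul_pow, Ideal.span_singleton_pow]
        exact Ideal.mul_mem_mul (Ideal.mem_span_singleton_self _) hc
      show x ^ (n * j + k) • c • w ∈ Q
      rw [smul_smul, show x ^ (n * j + k) * c = x ^ k * ((x ^ j) ^ n * c) by rw [← pow_mul]; ring]
      exact Submodule.smul_mem_smul (Ideal.mul_mem_left _ _ hcn) trivial
    refine le_trans ?_ (Module.length_le_of_surjective (Submodule.factor h1) (Submodule.factor_surjective h1))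
    exact (Submodule.quotientQuotientEquivQuotient _ R le_sup_right).length_eq.ge
  have hsum : Module.length A (M ⧸ Q) ≤ (n : ℕ∞) * ∑ j ∈ Finset.range N,
      Module.length A (QuotSMulTop x M ⧸ (colonIdeal I x j ^ n • (⊤ : Submodule A (QuotSMulTop x M)))) := by
    have hbot : Subsingleton (M ⧸ Q.comap (LinearMap.lsmul A M (x ^ (n * N)))) := by
      rw [Submodule.Quotient.subsingleton_iff, eq_top_iff]
      intro z _
      exact Submodule.smul_mem_smul (by rw [mul_comm, pow_mul]; exact Ideal.pow_mem_pow hN n) trivial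
    rw [length_colon_sum Q x (n * N), Module.length_eq_zero (M := M ⧸ Q.comap (LinearMap.lsmul A M (x ^ (n * N)))),
      add_zero]
    exact sum_range_mul_le n N hle
  have hcoe : (n : ℕ∞) * ∑ j ∈ Finset.range N, Module.length A
      (QuotSMulTop x M ⧸ (colonIdeal I x j ^ n • (⊤ : Submodule A (QuotSMulTop x M)))) =
      ((n * ∑ j ∈ Finset.range N, hs (colonIdeal I x j) (QuotSMulTop x M) n : ℕ) : ℕ∞) := by
    rw [Nat.cast_mul, Nat.cast_sum]
    exact congrArg _ (Finset.sum_congr rfl fun j _ => (ENat.natCast_toNat (hfin j)).symm)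
  rw [hcoe] at hsum
  exact (ENat.toNat_le_toNat hsum (ENat.natCast_ne_top _)).trans (ENat.toNat_natCast _).le

open Groth.Agent.GrLib8.KChi in
/-- The multiplicity is at most the Euler characteristic of any parameters times the colength. -/
theorem lim_le_chi_mul_colength : ∀ (l : List A), (∀ x ∈ l, x ∈ IsLocalRing.maximalIdeal A) →
    ∀ (M : Type u) [AddCommGroup M] [Module A M] [Module.Finite A M], FL (ModuleCat.of A M) l →
    ∀ (I : Ideal A) (n₀ : ℕ), IsLocalRing.maximalIdeal A ^ n₀ ≤ I → I ≤ IsLocalRing.maximalIdeal A →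
    ∀ e : ℝ, Tendsto (fun t : ℕ => ((l.length).factorial : ℝ) * (hs I M t : ℝ) / (t : ℝ) ^ l.length) atTop (𝓝 e) →
      e ≤ ((l.length).factorial : ℝ) * ((chi (ModuleCat.of A M) l : ℝ) * ((Module.length A (A ⧸ I)).toNat : ℝ))
  | [], _, M, _, _, _, hM => by
    intro I n₀ hI hI' e he
    have hfl : IsFiniteLength A M := by
      have h := (FL_iff (ModuleCat.of A M) []).1 hM
      exact (Submodule.quotEquivOfEqBot _ (by rw [Ideal.ofList_nil, Submodule.bot_smul])).isFiniteLength h
    have htop : Module.length A M ≠ ⊤ := Module.length_ne_top_iff.2 hfl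
    have hI1 : Module.length A (A ⧸ I) ≠ ⊤ := by
      refine length_ne_top_of_forall_isMaximal fun p hp => ?_
      rw [Module.support_eq_zeroLocus, Ideal.annihilator_quotient] at hp
      rw [← (IsLocalRing.maximalIdeal.isMaximal A).eq_of_le p.2.ne_top (p.2.le_of_pow_le (hI.trans hp))]
      exact IsLocalRing.maximalIdeal.isMaximal A
    haveI : Nontrivial (A ⧸ I) := Ideal.Quotient.nontrivial_iff.2
      (ne_top_of_le_ne_top (IsLocalRing.maximalIdeal.isMaximal A).ne_top hI')
    have hone : (1 : ℝ) ≤ ((Module.length A (A ⧸ I)).toNat : ℝ) := by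
      have h := ENat.toNat_le_toNat (ENat.one_le_iff_ne_zero.2 (Module.length_pos (R := A) (M := A ⧸ I)).ne') hI1
      exact_mod_cast h
    rw [chi_nil_eq]
    simp only [List.length_nil, Nat.factorial_zero, Nat.cast_one, one_mul, pow_zero, div_one] at he ⊢
    refine le_of_tendsto' he fun t => le_trans ?_ (le_mul_of_one_le_right (Int.cast_nonneg (by rw [len]; positivity)) hone)
    show ((hs I M t : ℕ) : ℝ) ≤ (((Module.length A M).toNat : ℤ) : ℝ)
    exact_mod_cast ENat.toNat_le_toNat
      (Module.length_le_of_surjective (Submodule.mkQ _) (Submodule.mkQ_surjective _)) htop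
  | x :: l, hl, M, _, _, hfin, hM => by
    have hx : x ∈ IsLocalRing.maximalIdeal A := hl x List.mem_cons_self
    have hl' : ∀ y ∈ l, y ∈ IsLocalRing.maximalIdeal A := fun y hy => hl y (List.mem_cons_of_mem _ hy)
    have ih := lim_le_chi_mul_colength l hl'
    revert hM
    refine IsNoetherianRing.induction_on_isQuotientEquivQuotientPrime (A := A) (M := M) hfin
      (motive := fun M _ _ _ => FL (ModuleCat.of A M) (x :: l) → ∀ (I : Ideal A) (n₀ : ℕ),
        IsLocalRing.maximalIdeal A ^ n₀ ≤ I → I ≤ IsLocalRing.maximalIdeal A →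
        ∀ e : ℝ, Tendsto (fun t : ℕ => (((x :: l).length).factorial : ℝ) * (hs I M t : ℝ) / (t : ℝ) ^ (x :: l).length)
            atTop (𝓝 e) →
          e ≤ (((x :: l).length).factorial : ℝ) *
            ((chi (ModuleCat.of A M) (x :: l) : ℝ) * ((Module.length A (A ⧸ I)).toNat : ℝ))) ?_ ?_ ?_
    · intro M _ _ _ _ hM I n₀ hI hI' e he
      rw [chi_cons_of_kill hM fun z => Subsingleton.elim _ _, Int.cast_zero, zero_mul, mul_zero]
      refine le_of_tendsto' he fun t => le_of_eq ?_
      haveI : Subsingleton (M ⧸ (I ^ t • (⊤ : Submodule A M))) := (Submodule.mkQ_surjective _).subsingleton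
      simp [hs, Module.length_eq_zero]
    · intro M _ _ _ p q hM I n₀ hI hI' e he
      by_cases hxp : x ∈ p.asIdeal
      · have hk : ∀ z : M, x • z = 0 := fun z => q.injective (by
          rw [map_smul, map_zero]
          obtain ⟨r, hr⟩ := Ideal.Quotient.mk_surjective (q z)
          rw [← hr]
          show Ideal.Quotient.mk _ (x * r) = 0
          exact Ideal.Quotient.eq_zero_iff_mem.2 (Ideal.mul_mem_right _ _ hxp))
        have hM' : FL (ModuleCat.of A M) l := fun P hP => hM P (sup_le (le_sup_left.trans hP) (by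
          rw [Ideal.ofList_cons]
          exact sup_le ((Ideal.span_singleton_le_iff_mem _).2 (hP (Submodule.mem_sup_left
            (Module.mem_annihilator.2 hk)))) (le_sup_right.trans hP)))
        rw [chi_cons_of_kill hM hk, Int.cast_zero, zero_mul, mul_zero]
        exact (tendsto_nhds_unique he (Groth.Agent.CycLib.tendsto_samuel_zero I hI hI' (dimSpec l hl' M hM').1
          (show l.length < (x :: l).length by rw [List.length_cons]; omega))).le
      · have hreg : ∀ z : M, x • z = 0 → z = 0 := fun z hz => q.injective (by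
          rw [map_zero]
          obtain ⟨r, hr⟩ := Ideal.Quotient.mk_surjective (q z)
          have h : x • q z = 0 := by rw [← map_smul, hz, map_zero]
          rw [← hr] at h ⊢
          rw [Ideal.Quotient.eq_zero_iff_mem]
          exact (p.2.mem_or_mem (Ideal.Quotient.eq_zero_iff_mem.1 h)).resolve_left hxp)
        let M' := QuotSMulTop x M
        have hex : ∀ z : M, Submodule.mkQ (x • (⊤ : Submodule A M)) z = 0 ↔ ∃ y, x • y = z := fun z => by
          rw [Submodule.mkQ_apply, Submodule.Quotient.mk_eq_zero, Submodule.mem_smul_pointwise_iff_exists]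
          simp
        have hkx : x ∈ Module.annihilator A M' := Module.mem_annihilator.2 fun z => by
          obtain ⟨z, rfl⟩ := Submodule.mkQ_surjective _ z
          rw [← map_smul]
          exact (hex _).2 ⟨z, rfl⟩
        have hann : Module.annihilator A M ≤ Module.annihilator A M' :=
          LinearMap.annihilator_le_of_surjective _ (Submodule.mkQ_surjective _)
        have hM' : FL (ModuleCat.of A M') l := fun P hP => hM P (sup_le (hann.trans (le_sup_left.trans hP)) (by
          rw [Ideal.ofList_cons]
          exact sup_le ((Ideal.span_singleton_le_iff_mem _).2 (hP (Submodule.mem_sup_left hkx)))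
            (le_sup_right.trans hP)))
        rw [chi_cons_of_regular (M := ModuleCat.of A M) (M' := ModuleCat.of A M')
          (ModuleCat.ofHom (Submodule.mkQ _)) (Submodule.mkQ_surjective _) hreg hex]
        have hdim : Module.supportDim A M' ≤ (l.length : WithBot ℕ∞) := (dimSpec l hl' M' hM').1
        set χ : ℝ := (chi (ModuleCat.of A M') l : ℝ)
        have hN : x ^ n₀ ∈ I := hI (Ideal.pow_mem_pow hx n₀)
        have hfac : (0 : ℝ) < ((l.length).factorial : ℝ) := by positivity
        have hj : ∀ j, ∃ L : ℝ, Tendsto (fun t : ℕ => (hs (colonIdeal I x j) M' t : ℝ) / (t : ℝ) ^ l.length)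
            atTop (𝓝 L) ∧ L ≤ χ * ((Module.length A (A ⧸ colonIdeal I x j)).toNat : ℝ) := by
          intro j
          have hIle : I ≤ colonIdeal I x j := le_sup_left.trans' fun z hz => I.mul_mem_left _ hz
          by_cases htop : colonIdeal I x j = ⊤
          · refine ⟨0, tendsto_const_nhds.congr fun t => ?_, ?_⟩
            · haveI : Subsingleton (M' ⧸ (colonIdeal I x j ^ t • (⊤ : Submodule A M'))) := by
                rw [htop, Ideal.top_pow, Submodule.top_smul]
                exact Submodule.Quotient.subsingleton_iff.2 rfl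
              simp [hs, Module.length_eq_zero]
            · haveI : Subsingleton (A ⧸ colonIdeal I x j) := Ideal.Quotient.subsingleton_iff.2 htop
              simp [Module.length_eq_zero]
          · have hle' := IsLocalRing.le_maximalIdeal htop
            obtain ⟨L, -, hL⟩ := exists_lim (colonIdeal I x j) (hI.trans hIle) hle' M' l.length hdim
            refine ⟨L, hL, le_of_mul_le_mul_left ?_ hfac⟩
            exact ih M' hM' (colonIdeal I x j) n₀ (hI.trans hIle) hle' _
              ((hL.const_mul ((l.length).factorial : ℝ)).congr fun t => (mul_div_assoc _ _ _).symm)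
        choose L hL hLle using hj
        have hsumI : ∑ j ∈ Finset.range n₀, ((Module.length A (A ⧸ colonIdeal I x j)).toNat : ℝ) =
            ((Module.length A (A ⧸ I)).toNat : ℝ) := by
          rw [← sum_length_colonIdeal I x hN, ENat.toNat_sum fun j _ => ?_, Nat.cast_sum]
          exact length_ne_top_of_forall_isMaximal fun P hP => by
            rw [Module.support_eq_zeroLocus, Ideal.annihilator_quotient] at hP
            rw [← (IsLocalRing.maximalIdeal.isMaximal A).eq_of_le P.2.ne_top (P.2.le_of_pow_le
              (hI.trans ((le_sup_left.trans' fun z hz => I.mul_mem_left _ hz).trans hP)))]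
            exact IsLocalRing.maximalIdeal.isMaximal A
        have he' : Tendsto (fun t : ℕ => (hs I M t : ℝ) / (t : ℝ) ^ (x :: l).length) atTop
            (𝓝 (e / (((x :: l).length).factorial : ℝ))) := by
          refine (he.div_const _).congr fun t => ?_
          field_simp
        have hbound : e / (((x :: l).length).factorial : ℝ) ≤ ∑ j ∈ Finset.range n₀, L j := by
          refine le_of_tendsto_of_tendsto he' (tendsto_finsetSum _ fun j _ => hL j) ?_
          filter_upwards [eventually_gt_atTop 0] with t ht
          have h := hs_le_sum I hI M x hN t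
          have ht' : (0 : ℝ) < (t : ℝ) := by exact_mod_cast ht
          have hR : (hs I M t : ℝ) ≤ (t : ℝ) * ∑ j ∈ Finset.range n₀, (hs (colonIdeal I x j) M' t : ℝ) := by
            exact_mod_cast h
          rw [← Finset.sum_div, List.length_cons, pow_succ', div_le_div_iff₀ (by positivity) (by positivity)]
          refine (mul_le_mul_of_nonneg_right hR (by positivity)).trans (le_of_eq ?_)
          ring
        have hfin : e / (((x :: l).length).factorial : ℝ) ≤ χ * ((Module.length A (A ⧸ I)).toNat : ℝ) := by
          rw [← hsumI, Finset.mul_sum]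
          exact hbound.trans (Finset.sum_le_sum fun j _ => hLle j)
        rw [div_le_iff₀ (by positivity)] at hfin
        linarith
    · intro N₁ _ _ _ N₂ _ _ _ N₃ _ _ _ f g hf hg hfg h1 h3 hM I n₀ hI hI' e he
      have hM1 : FL (ModuleCat.of A N₁) (x :: l) := fun P hP =>
        hM P (sup_le ((LinearMap.annihilator_le_of_injective f hf).trans (le_sup_left.trans hP)) (le_sup_right.trans hP))
      have hM3 : FL (ModuleCat.of A N₃) (x :: l) := fun P hP =>
        hM P (sup_le ((LinearMap.annihilator_le_of_surjective g hg).trans (le_sup_left.trans hP)) (le_sup_right.trans hP))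
      rw [chi_add (M₁ := ModuleCat.of A N₁) (M₂ := ModuleCat.of A N₂) (M₃ := ModuleCat.of A N₃)
        (ModuleCat.ofHom f) (ModuleCat.ofHom g) hf hg hfg hM1 hM hM3, Int.cast_add, add_mul, mul_add]
      obtain ⟨L₁, -, hL₁⟩ := exists_lim I hI hI' N₁ (x :: l).length (dimSpec (x :: l) hl N₁ hM1).1
      obtain ⟨L₃, -, hL₃⟩ := exists_lim I hI hI' N₃ (x :: l).length (dimSpec (x :: l) hl N₃ hM3).1
      have e₁ := (hL₁.const_mul (((x :: l).length).factorial : ℝ)).congr fun t => (mul_div_assoc _ _ _).symm
      have e₃ := (hL₃.const_mul (((x :: l).length).factorial : ℝ)).congr fun t => (mul_div_assoc _ _ _).symm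
      rw [tendsto_nhds_unique he (Groth.Agent.CycLib.samuel_add I hI f g hf hg hfg.linearMap_ker_eq.symm _ e₁ e₃)]
      exact add_le_add (h1 hM1 I n₀ hI hI' _ e₁) (h3 hM3 I n₀ hI hI' _ e₃)

end Groth.Agent.GrLib8.Samuel
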