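import Groth.Agent.HSLib.Samuel
import Mathlib.Analysis.SpecificLimits.Basic

/-!
# Growth of Hilbert–Samuel functions of ideals of definition of a local ring
-/

set_option autoImplicit false

universe u

open Polynomial Filter Topology
open Groth.Agent.HSLib

namespace Groth.Agent.GrLib8.Samuel

theorem tendsto_eval_div_pow (P : ℚ[X]) (d : ℕ) (hP : P.natDegree ≤ d) :
    Tendsto (fun t : ℕ => ((P.eval (t : ℚ) : ℚ) : ℝ) / (t : ℝ) ^ d) atTop (𝓝 (P.coeff d : ℝ)) := by
  have h : ∀ i ∈ Finset.range (d + 1), Tendsto (fun t : ℕ => (P.coeff i : ℝ) * ((t : ℝ) ^ i / (t : ℝ) ^ d)) atTop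
      (𝓝 (if i = d then (P.coeff i : ℝ) else 0)) := by
    intro i hi
    rw [Finset.mem_range] at hi
    split_ifs with hid
    · subst hid
      refine tendsto_const_nhds.congr' ?_
      filter_upwards [eventually_gt_atTop 0] with t ht
      rw [div_self (pow_ne_zero _ (by positivity : (t : ℝ) ≠ 0)), mul_one]
    · obtain ⟨e, rfl⟩ : ∃ e, d = i + (e + 1) := ⟨d - i - 1, by omega⟩
      have h0 : Tendsto (fun t : ℕ => ((1 : ℝ) / (t : ℝ)) ^ (e + 1)) atTop (𝓝 0) := by
        simpa using (tendsto_one_div_atTop_nhds_zero_nat (𝕜 := ℝ)).pow (e + 1)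
      refine (by simpa using h0.const_mul (P.coeff i : ℝ) :
        Tendsto (fun t : ℕ => (P.coeff i : ℝ) * ((1 : ℝ) / (t : ℝ)) ^ (e + 1)) atTop (𝓝 0)).congr' ?_
      filter_upwards [eventually_gt_atTop 0] with t ht
      have : (t : ℝ) ≠ 0 := by positivity
      rw [pow_add (t : ℝ) i, div_pow, one_pow, ← div_div, div_self (pow_ne_zero _ this)]
  have hsum := tendsto_finsetSum (Finset.range (d + 1)) h
  rw [Finset.sum_ite_eq' _ d, if_pos (by simp)] at hsum
  refine hsum.congr fun t => ?_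
  rw [Polynomial.eval_eq_sum_range' (Nat.lt_succ_of_le hP)]
  push_cast
  rw [Finset.sum_div]
  exact Finset.sum_congr rfl fun i _ => by rw [mul_div_assoc]

theorem tendsto_of_evPoly {f : ℕ → ℕ} {P : ℚ[X]} (hf : EvPoly f P) (d : ℕ) (hP : P.natDegree ≤ d) :
    Tendsto (fun t : ℕ => (f t : ℝ) / (t : ℝ) ^ d) atTop (𝓝 (P.coeff d : ℝ)) := by
  refine (tendsto_eval_div_pow P d hP).congr' ?_
  filter_upwards [hf] with t ht
  rw [← ht]
  push_cast
  rfl

theorem tendsto_shift {f : ℕ → ℝ} {d : ℕ} {L : ℝ} (h : Tendsto (fun t : ℕ => f t / (t : ℝ) ^ d) atTop (𝓝 L)) (k : ℕ) :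
    Tendsto (fun t : ℕ => f (t + k) / (t : ℝ) ^ d) atTop (𝓝 L) := by
  have h1 : Tendsto (fun t : ℕ => (((t : ℝ) + k) / t) ^ d) atTop (𝓝 1) := by
    have h2 : Tendsto (fun t : ℕ => 1 + (k : ℝ) / t) atTop (𝓝 1) := by
      simpa using (tendsto_const_div_atTop_nhds_zero_nat (k : ℝ)).const_add 1
    have h3 := h2.pow d
    rw [one_pow] at h3
    refine h3.congr' ?_
    filter_upwards [eventually_gt_atTop 0] with t ht
    have : (t : ℝ) ≠ 0 := by positivity
    rw [add_div, div_self this]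
  have h2 := ((tendsto_add_atTop_iff_nat k).2 h).mul h1
  rw [mul_one] at h2
  refine h2.congr' ?_
  filter_upwards [eventually_gt_atTop 0] with t ht
  have : (t : ℝ) ≠ 0 := by positivity
  have : ((t : ℝ) + k) ≠ 0 := by positivity
  push_cast
  rw [div_pow]
  field_simp

theorem tendsto_mul_arg {f : ℕ → ℝ} {d : ℕ} {L : ℝ} (h : Tendsto (fun t : ℕ => f t / (t : ℝ) ^ d) atTop (𝓝 L)) {N : ℕ}
    (hN : 0 < N) : Tendsto (fun t : ℕ => f (N * t) / (t : ℝ) ^ d) atTop (𝓝 ((N : ℝ) ^ d * L)) := by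
  have hat : Tendsto (fun t : ℕ => N * t) atTop atTop :=
    tendsto_atTop_mono (fun t => Nat.le_mul_of_pos_left t hN) tendsto_id
  refine ((h.comp hat).const_mul ((N : ℝ) ^ d)).congr' ?_
  filter_upwards [eventually_gt_atTop 0] with t ht
  have : (N : ℝ) ≠ 0 := by positivity
  have : (t : ℝ) ≠ 0 := by positivity
  simp only [Function.comp]
  push_cast
  rw [mul_pow]
  field_simp

variable {A : Type u} [CommRing A] [IsNoetherianRing A] [IsLocalRing A]

theorem maxSupp_of_pow_le {I : Ideal A} {n : ℕ} (hI : IsLocalRing.maximalIdeal A ^ n ≤ I) (M : Type u)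
    [AddCommGroup M] [Module A M] : MaxSupp I M := fun p _ hp => by
  have h := p.2.le_of_pow_le (hI.trans hp)
  rw [← (IsLocalRing.maximalIdeal.isMaximal A).eq_of_le p.2.ne_top h]
  exact IsLocalRing.maximalIdeal.isMaximal A

omit [IsLocalRing A] in
theorem hs_mono {I J : Ideal A} (hIJ : I ≤ J) {M : Type u} [AddCommGroup M] [Module A M] [Module.Finite A M]
    (hI : MaxSupp I M) (t : ℕ) : hs J M t ≤ hs I M t := by
  have hle : I ^ t • (⊤ : Submodule A M) ≤ J ^ t • ⊤ := Submodule.smul_mono (Ideal.pow_right_mono hIJ t) le_rfl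
  exact ENat.toNat_le_toNat (Module.length_le_of_surjective (Submodule.factor hle) (Submodule.factor_surjective hle))
    (length_quot_ne_top hI le_rfl)

variable (I : Ideal A) {n : ℕ} (hI : IsLocalRing.maximalIdeal A ^ n ≤ I) (hI' : I ≤ IsLocalRing.maximalIdeal A)
  (M : Type u) [AddCommGroup M] [Module A M] [Module.Finite A M]

include hI in
theorem hs_le_maximal (t : ℕ) : hs I M t ≤ hs (IsLocalRing.maximalIdeal A) M (n * t) := by
  have hle : IsLocalRing.maximalIdeal A ^ (n * t) • (⊤ : Submodule A M) ≤ I ^ t • ⊤ :=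
    Submodule.smul_mono (by rw [pow_mul]; exact Ideal.pow_right_mono hI t) le_rfl
  exact ENat.toNat_le_toNat (Module.length_le_of_surjective (Submodule.factor hle) (Submodule.factor_surjective hle))
    (length_quot_ne_top (maxSupp_of_pow_le (n := 1) (pow_one (IsLocalRing.maximalIdeal A)).le M) le_rfl)

include hI hI' in
theorem exists_poly_le (d : ℕ) (hd : Module.supportDim A M ≤ d) :
    ∃ R : ℚ[X], R.natDegree ≤ d ∧ EvPoly (hs I M) R := by
  obtain ⟨s, x, hx⟩ := Submodule.fg_iff_exists_fin_generating_family.1 (IsNoetherian.noetherian I)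
  replace hx : Ideal.span (Set.range x) = I := hx
  have hmax : MaxSupp (Ideal.span (Set.range x)) M := by rw [hx]; exact maxSupp_of_pow_le hI M
  obtain ⟨R, -, hR⟩ := exists_poly x hmax
  rw [hx] at hR
  refine ⟨R, ?_, hR⟩
  obtain ⟨Rm, hRm⟩ := exists_poly_jacobson (A := A) M
  obtain ⟨y, hy, hymax⟩ := exists_params_module M hd
  have hdeg := natDegree_le_of_params M Rm hRm y hy hymax
  rw [IsLocalRing.ringJacobson_eq_maximalIdeal] at hRm
  have hev : EvPoly (fun t => hs (IsLocalRing.maximalIdeal A) M ((n + 1) * t))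
      (Rm.comp (C ((n + 1 : ℕ) : ℚ) * X)) := by
    have hat : Tendsto (fun t : ℕ => (n + 1) * t) atTop atTop :=
      tendsto_atTop_mono (fun t => Nat.le_mul_of_pos_left t (by omega)) tendsto_id
    filter_upwards [hat.eventually hRm] with t ht
    rw [ht]
    simp [eval_comp]
  refine (natDegree_le_of_eventually_le hR hev (Eventually.of_forall fun t => ?_)).trans
    (natDegree_comp_le.trans ?_)
  · exact hs_le_maximal I ((Ideal.pow_le_pow_right (Nat.le_succ n)).trans hI) M t
  · calc Rm.natDegree * (C ((n + 1 : ℕ) : ℚ) * X).natDegree ≤ Rm.natDegree * 1 :=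
          Nat.mul_le_mul_left _ ((natDegree_C_mul_le _ _).trans natDegree_X_le)
      _ ≤ d := by rw [mul_one]; exact hdeg

include hI hI' in
theorem exists_lim (d : ℕ) (hd : Module.supportDim A M ≤ d) :
    ∃ L : ℝ, 0 ≤ L ∧ Tendsto (fun t : ℕ => (hs I M t : ℝ) / (t : ℝ) ^ d) atTop (𝓝 L) := by
  obtain ⟨R, hdeg, hR⟩ := exists_poly_le I hI hI' M d hd
  have h := tendsto_of_evPoly hR d hdeg
  exact ⟨_, ge_of_tendsto' h fun t => by positivity, h⟩

include hI hI' in
theorem exists_lim_pos (d : ℕ) (hd : Module.supportDim A M = d) :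
    ∃ L : ℝ, 0 < L ∧ Tendsto (fun t : ℕ => (hs I M t : ℝ) / (t : ℝ) ^ d) atTop (𝓝 L) := by
  obtain ⟨R, hdeg, hR⟩ := exists_poly_le I hI hI' M d hd.le
  have h := tendsto_of_evPoly hR d hdeg
  refine ⟨_, lt_of_le_of_ne (ge_of_tendsto' h fun t => by positivity) fun h0 => ?_, h⟩
  obtain ⟨Rm, hRm⟩ := exists_poly_jacobson (A := A) M
  have h1 := supportDim_le_natDegree M Rm hRm
  rw [hd] at h1
  rw [IsLocalRing.ringJacobson_eq_maximalIdeal] at hRm
  have h2 : Rm.natDegree ≤ R.natDegree := natDegree_le_of_eventually_le hRm hR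
    (Eventually.of_forall fun t => hs_mono hI' (maxSupp_of_pow_le hI M) t)
  have h3 : d ≤ Rm.natDegree := by exact_mod_cast h1
  haveI : Nontrivial M := (Module.supportDim_ne_bot_iff_nontrivial A M).1 (by rw [hd]; exact WithBot.coe_ne_bot)
  have hR0 : R ≠ 0 := by
    rintro rfl
    obtain ⟨t, ht, h1t⟩ := (hR.and (eventually_ge_atTop 1)).exists
    rw [eval_zero, Nat.cast_eq_zero] at ht
    have := hs_pos (maxSupp_of_pow_le hI M) (IsLocalRing.ringJacobson_eq_maximalIdeal (R := A) ▸ hI') h1t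
    omega
  refine leadingCoeff_ne_zero.2 hR0 ?_
  rw [leadingCoeff, show R.natDegree = d by omega]
  exact_mod_cast h0.symm

end Groth.Agent.GrLib8.Samuel
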