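import Groth.Agent.GrLib8.Samuel.Push
import Groth.Agent.GrLib8.Samuel.Reduction
import Mathlib.Algebra.Module.FinitePresentation
import Mathlib.Algebra.Module.Torsion.Basic

/-!
# Existence of the Hilbert–Kunz multiplicity
-/

set_option autoImplicit false
set_option linter.style.haveILetI false

universe u

open Filter Topology
open Groth.Agent.HSLib

namespace Groth.Agent.GrLib8.Samuel

variable {A : Type u} [CommRing A] [IsNoetherianRing A] [IsLocalRing A]

section Top

variable {d : ℕ} (hd : ringKrullDim A = d)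

include hd in
theorem mem_minimalPrimes_of_top (P : PrimeSpectrum A) (hP : ringKrullDim (A ⧸ P.asIdeal) = d) :
    P.asIdeal ∈ minimalPrimes A := by
  obtain ⟨Q, hQ, hQP⟩ := Ideal.exists_minimalPrimes_le (I := (⊥ : Ideal A)) (J := P.asIdeal) bot_le
  haveI hQp : Q.IsPrime := hQ.1.1
  by_cases h : Q = P.asIdeal
  · exact h ▸ hQ
  exfalso
  rw [ringKrullDim_quotient] at hP
  obtain ⟨l, hl⟩ := Order.le_krullDim_iff.1 hP.ge
  let l' : LTSeries (PrimeSpectrum A) := l.map Subtype.val (fun _ _ hab => hab)
  have hlt : (⟨Q, hQp⟩ : PrimeSpectrum A) < l'.head :=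
    lt_of_le_of_ne (hQP.trans l.head.2) fun he => h (le_antisymm hQP
      ((l.head.2 : P.asIdeal ≤ (l.head.1).asIdeal).trans (congrArg PrimeSpectrum.asIdeal he).ge))
  have h1 : ((l'.cons _ hlt).length : WithBot ℕ∞) ≤ ringKrullDim A := Order.LTSeries.length_le_krullDim _
  rw [hd, RelSeries.cons_length] at h1
  have h2 : l.length + 1 ≤ d := by exact_mod_cast h1
  omega

include hd in
theorem supportDim_le_of_top (X : Type u) [AddCommGroup X] [Module A X] [Module.Finite A X]
    (h : ∀ P : PrimeSpectrum A, ringKrullDim (A ⧸ P.asIdeal) = d →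
      Subsingleton (LocalizedModule P.asIdeal.primeCompl X)) :
    Subsingleton X ∨ ∃ j : ℕ, j + 1 = d ∧ Module.supportDim A X ≤ j := by
  by_cases hX : Subsingleton X
  · exact Or.inl hX
  right
  rw [not_subsingleton_iff_nontrivial] at hX
  have key : ∀ p ∈ Module.support A X, ringKrullDim (A ⧸ p.asIdeal) < (d : WithBot ℕ∞) := fun p hp =>
    lt_of_le_of_ne ((ringKrullDim_quotient_le _).trans hd.le) fun he => by
      have h0 : p ∉ Module.support A X := Module.notMem_support_iff.2 (h p he)
      exact h0 hp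
  obtain ⟨p, hp⟩ := (Module.nonempty_support_iff (R := A)).2 hX
  have hd0 : 0 < d := by
    have h0 : (0 : WithBot ℕ∞) ≤ ringKrullDim (A ⧸ p.asIdeal) := ringKrullDim_nonneg_of_nontrivial
    exact_mod_cast h0.trans_lt (key p hp)
  refine ⟨d - 1, by omega, iSup_le fun l => ?_⟩
  let l' : LTSeries (PrimeSpectrum.zeroLocus ((l.head.1).asIdeal : Set A)) :=
    { length := l.length
      toFun := fun i => ⟨(l.toFun i).1, LTSeries.head_le l i⟩
      step := fun i => l.step i }
  have h1 : (l.length : WithBot ℕ∞) ≤ ringKrullDim (A ⧸ (l.head.1).asIdeal) := by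
    rw [ringKrullDim_quotient]
    exact Order.LTSeries.length_le_krullDim l'
  have h2 := h1.trans_lt (key _ l.head.2)
  have h3 : l.length < d := by exact_mod_cast h2
  exact_mod_cast (show l.length ≤ d - 1 by omega)

theorem exists_linearEquiv_of_kill {K : Type u} [CommRing K] [IsLocalRing K] (X Y : Type u) [AddCommGroup X]
    [Module K X] [Module.Finite K X] [AddCommGroup Y] [Module K Y] [Module.Finite K Y]
    (hX : Module.IsTorsionBySet K X (IsLocalRing.maximalIdeal K))
    (hY : Module.IsTorsionBySet K Y (IsLocalRing.maximalIdeal K))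
    (h : Module.length K X = Module.length K Y) : Nonempty (X ≃ₗ[K] Y) := by
  letI := Ideal.Quotient.field (IsLocalRing.maximalIdeal K)
  letI := hX.module
  letI := hY.module
  haveI : IsScalarTower K (K ⧸ IsLocalRing.maximalIdeal K) X := hX.isScalarTower
  haveI : IsScalarTower K (K ⧸ IsLocalRing.maximalIdeal K) Y := hY.isScalarTower
  haveI : Module.Finite (K ⧸ IsLocalRing.maximalIdeal K) X := Module.Finite.of_restrictScalars_finite K _ X
  haveI : Module.Finite (K ⧸ IsLocalRing.maximalIdeal K) Y := Module.Finite.of_restrictScalars_finite K _ Y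
  have hs : Function.Surjective (algebraMap K (K ⧸ IsLocalRing.maximalIdeal K)) := Ideal.Quotient.mk_surjective
  rw [Module.length_eq_of_surjective (M := X) hs, Module.length_eq_of_surjective (M := Y) hs,
    Module.length_eq_finrank, Module.length_eq_finrank] at h
  exact ⟨(LinearEquiv.ofFinrankEq X Y (by exact_mod_cast h)).restrictScalars K⟩

include hd in
theorem exists_iso_at_top (X Y : Type u) [AddCommGroup X] [Module A X] [Module.Finite A X] [AddCommGroup Y]
    [Module A Y] [Module.Finite A Y] (hX : nilradical A ≤ Module.annihilator A X)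
    (hY : nilradical A ≤ Module.annihilator A Y)
    (h : ∀ P : PrimeSpectrum A, ringKrullDim (A ⧸ P.asIdeal) = d →
      Module.length (Localization.AtPrime P.asIdeal) (LocalizedModule P.asIdeal.primeCompl X) =
        Module.length (Localization.AtPrime P.asIdeal) (LocalizedModule P.asIdeal.primeCompl Y)) :
    ∃ φ : X →ₗ[A] Y, ∀ P : PrimeSpectrum A, ringKrullDim (A ⧸ P.asIdeal) = d →
      Function.Bijective (LocalizedModule.map P.asIdeal.primeCompl φ) := by
  classical
  have hfin := minimalPrimes.finite_of_isNoetherianRing A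
  let T : Finset (PrimeSpectrum A) := by
    refine (Set.Finite.toFinset (s := {P : PrimeSpectrum A | ringKrullDim (A ⧸ P.asIdeal) = d}) ?_)
    refine (hfin.preimage (fun a _ b _ => PrimeSpectrum.ext)).subset fun P hP => mem_minimalPrimes_of_top hd P hP
  have hT : ∀ P, P ∈ T ↔ ringKrullDim (A ⧸ P.asIdeal) = d := fun P => Set.Finite.mem_toFinset _
  have hc : ∀ P ∈ T, ∃ c : A, c ∉ P.asIdeal ∧ ∀ Q ∈ minimalPrimes A, Q ≠ P.asIdeal → c ∈ Q := by
    intro P hP
    have hPm := mem_minimalPrimes_of_top hd P ((hT P).1 hP)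
    have hQ : ∀ Q ∈ (hfin.toFinset.erase P.asIdeal), ∃ a ∈ Q, a ∉ P.asIdeal := fun Q hQ => by
      obtain ⟨hne, hQ⟩ := Finset.mem_erase.1 hQ
      rw [Set.Finite.mem_toFinset] at hQ
      exact SetLike.not_le_iff_exists.1 fun hle => hne (le_antisymm hle (hPm.2 hQ.1 hle))
    choose! a ha ha' using hQ
    refine ⟨∏ Q ∈ hfin.toFinset.erase P.asIdeal, a Q, fun hmem => ?_, fun Q hQ hne => ?_⟩
    · obtain ⟨Q, hQ, hQa⟩ := (P.2.prod_mem_iff).1 hmem
      exact ha' Q hQ hQa
    · have hQ' : Q ∈ hfin.toFinset.erase P.asIdeal := Finset.mem_erase.2 ⟨hne, (Set.Finite.mem_toFinset _).2 hQ⟩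
      exact Ideal.mem_of_dvd _ (Finset.dvd_prod_of_mem a hQ') (ha Q hQ')
  choose! c hc hc' using hc
  have hkill : ∀ P ∈ T, ∀ (Z : Type u) [AddCommGroup Z] [Module A Z], nilradical A ≤ Module.annihilator A Z →
      ∀ r ∈ P.asIdeal, ∀ z : LocalizedModule P.asIdeal.primeCompl Z, r • z = 0 := by
    intro P hP Z _ _ hZ r hr z
    induction z using LocalizedModule.induction_on with
    | _ m s =>
      rw [LocalizedModule.smul'_mk, ← LocalizedModule.mk_cancel_common_left (⟨c P, hc P hP⟩ : P.asIdeal.primeCompl),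
        Submonoid.smul_def, smul_smul, Module.mem_annihilator.1 (hZ ?_) m, LocalizedModule.zero_mk]
      rw [nilradical_eq_sInf, Ideal.mem_sInf]
      intro Q hQ
      haveI : Q.IsPrime := hQ
      obtain ⟨Q', hQ', hle⟩ := Ideal.exists_minimalPrimes_le (I := (⊥ : Ideal A)) (J := Q) bot_le
      refine hle ?_
      by_cases hne : Q' = P.asIdeal
      · rw [hne]
        exact Ideal.mul_mem_left _ _ hr
      · exact Ideal.mul_mem_right _ _ (hc' P hP Q' hQ' hne)
  have hφ : ∀ P ∈ T, ∃ φ : X →ₗ[A] Y, Function.Bijective (LocalizedModule.map P.asIdeal.primeCompl φ) := by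
    intro P hP
    let S := P.asIdeal.primeCompl
    have hkill' : ∀ (Z : Type u) [AddCommGroup Z] [Module A Z], nilradical A ≤ Module.annihilator A Z →
        Module.IsTorsionBySet (Localization.AtPrime P.asIdeal) (LocalizedModule S Z)
          (IsLocalRing.maximalIdeal (Localization.AtPrime P.asIdeal)) := by
      intro Z _ _ hZ z a
      have ha : (a : Localization.AtPrime P.asIdeal) ∈ P.asIdeal.map (algebraMap A (Localization.AtPrime P.asIdeal)) :=
        Localization.AtPrime.map_eq_maximalIdeal.ge a.2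
      have hle : P.asIdeal.map (algebraMap A (Localization.AtPrime P.asIdeal)) ≤
          LinearMap.ker (LinearMap.toSpanSingleton (Localization.AtPrime P.asIdeal) _ z) :=
        Ideal.map_le_iff_le_comap.2 fun r hr => by
          show algebraMap A (Localization.AtPrime P.asIdeal) r • z = 0
          rw [algebraMap_smul]
          exact hkill P hP Z hZ r hr z
      exact hle ha
    obtain ⟨e⟩ := exists_linearEquiv_of_kill (K := Localization.AtPrime P.asIdeal) _ _ (hkill' X hX) (hkill' Y hY)
      (h P ((hT P).1 hP))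
    let ψ : LocalizedModule S X →ₗ[A] LocalizedModule S Y := e.toLinearMap.restrictScalars A
    obtain ⟨φ, s, hs⟩ := Module.FinitePresentation.exists_lift_of_isLocalizedModule
      (h := Module.finitePresentation_of_finite A X) S (LocalizedModule.mkLinearMap S Y)
      (ψ ∘ₗ LocalizedModule.mkLinearMap S X)
    have hmap : (LocalizedModule.map S φ).restrictScalars A = s • ψ := by
      refine IsLocalizedModule.linearMap_ext S (LocalizedModule.mkLinearMap S X) (LocalizedModule.mkLinearMap S Y) ?_
      ext x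
      have := LinearMap.congr_fun hs x
      simp only [LinearMap.coe_comp, Function.comp_apply, LinearMap.coe_restrictScalars] at this ⊢
      refine Eq.trans ?_ this
      simp [LocalizedModule.map_mk, LocalizedModule.mkLinearMap_apply]
    refine ⟨φ, ?_⟩
    have : Function.Bijective ((LocalizedModule.map S φ).restrictScalars A) := by
      rw [hmap]
      exact ((Module.End.isUnit_iff _).1 (IsLocalizedModule.map_units (LocalizedModule.mkLinearMap S Y) s)).comp
        e.bijective
    exact this
  choose! φ hφ using hφ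
  refine ⟨∑ P ∈ T, c P • φ P, fun P hP => ?_⟩
  replace hP := (hT P).2 hP
  have hsum : ∀ z : LocalizedModule P.asIdeal.primeCompl X,
      LocalizedModule.map P.asIdeal.primeCompl (∑ Q ∈ T, c Q • φ Q) z =
        c P • LocalizedModule.map P.asIdeal.primeCompl (φ P) z := by
    intro z
    rw [map_sum, LinearMap.sum_apply, Finset.sum_eq_single P ?_ (fun hn => absurd hP hn)]
    · rw [map_smul, LinearMap.smul_apply]
    · intro Q hQ hne
      rw [map_smul, LinearMap.smul_apply]
      exact hkill P hP Y hY _ (hc' Q hQ _ (mem_minimalPrimes_of_top hd P ((hT P).1 hP))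
        fun he => hne (PrimeSpectrum.ext he.symm)) _
  rw [show ⇑(LocalizedModule.map P.asIdeal.primeCompl (∑ Q ∈ T, c Q • φ Q)) =
    (fun z => c P • z) ∘ ⇑(LocalizedModule.map P.asIdeal.primeCompl (φ P)) from funext hsum]
  exact ((Module.End.isUnit_iff _).1 (IsLocalizedModule.map_units
    (LocalizedModule.mkLinearMap P.asIdeal.primeCompl Y) (⟨c P, hc P hP⟩ : P.asIdeal.primeCompl))).comp (hφ P hP)

end Top

section HK

variable (p : ℕ) [Fact p.Prime] [CharP A p] {d : ℕ} (hd : ringKrullDim A = d) (a : Ideal A)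
  (ha' : a ≤ IsLocalRing.maximalIdeal A) {n : ℕ} (ha : IsLocalRing.maximalIdeal A ^ n ≤ a)

/-- The Hilbert–Kunz function. -/
noncomputable def hk (X : Type u) [AddCommGroup X] [Module A X] (e : ℕ) : ℕ :=
  (Module.length A (X ⧸ (a.map (iterateFrobenius A p e) • (⊤ : Submodule A X)))).toNat

omit [IsLocalRing A] in
theorem exists_pow_le_map : ∃ μ : ℕ, 0 < μ ∧ ∀ e, a ^ (μ * p ^ e) ≤ a.map (iterateFrobenius A p e) := by
  classical
  obtain ⟨s, hs⟩ := IsNoetherian.noetherian a
  replace hs : Ideal.span (s : Set A) = a := hs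
  refine ⟨s.card + 1, Nat.succ_pos _, fun e => ?_⟩
  refine (Ideal.pow_le_pow_right (show s.card * p ^ e + 1 ≤ (s.card + 1) * p ^ e by
    have : 1 ≤ p ^ e := Nat.one_le_pow _ _ (Fact.out : p.Prime).pos
    rw [add_mul, one_mul]; omega)).trans ?_
  rw [← hs]
  refine (span_pow_card_le (p ^ e) s).trans (Ideal.span_le.2 ?_)
  simp only [Finset.coe_image]
  rintro _ ⟨x, hx, rfl⟩
  have hx' := Ideal.mem_map_of_mem (iterateFrobenius A p e) (Ideal.subset_span hx : x ∈ Ideal.span (s : Set A))
  rwa [iterateFrobenius_def] at hx'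

include ha in
theorem length_hk_ne_top (X : Type u) [AddCommGroup X] [Module A X] [Module.Finite A X] (e : ℕ) :
    Module.length A (X ⧸ (a.map (iterateFrobenius A p e) • (⊤ : Submodule A X))) ≠ ⊤ := by
  obtain ⟨μ, -, hμ⟩ := exists_pow_le_map p a
  exact length_quot_ne_top (maxSupp_of_pow_le ha X) (t := μ * p ^ e) (Submodule.smul_mono (hμ e) le_rfl)

include hd ha ha' in
theorem hk_le_of_iso (X Y : Type u) [AddCommGroup X] [Module A X] [Module.Finite A X] [AddCommGroup Y]
    [Module A Y] [Module.Finite A Y] (φ : X →ₗ[A] Y)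
    (hφ : ∀ P : PrimeSpectrum A, ringKrullDim (A ⧸ P.asIdeal) = d →
      Function.Bijective (LocalizedModule.map P.asIdeal.primeCompl φ)) :
    ∃ C : ℕ, ∀ e, (hk p a Y e) * p ^ e ≤ (hk p a X e) * p ^ e + C * p ^ (d * e) := by
  set Z := Y ⧸ LinearMap.range φ
  let π : Y →ₗ[A] Z := (LinearMap.range φ).mkQ
  have hZ : ∀ P : PrimeSpectrum A, ringKrullDim (A ⧸ P.asIdeal) = d →
      Subsingleton (LocalizedModule P.asIdeal.primeCompl Z) := by
    intro P hP
    refine subsingleton_of_forall_eq 0 fun z => ?_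
    obtain ⟨y, rfl⟩ := IsLocalizedModule.map_surjective P.asIdeal.primeCompl
      (LocalizedModule.mkLinearMap P.asIdeal.primeCompl Y) (LocalizedModule.mkLinearMap P.asIdeal.primeCompl Z) π (Submodule.mkQ_surjective _) z
    obtain ⟨x, rfl⟩ := (hφ P hP).2 y
    exact (LocalizedModule.map_exact P.asIdeal.primeCompl φ π (LinearMap.exact_map_mkQ_range φ)).apply_apply_eq_zero x
  have hbase : ∀ e, hk p a Y e ≤ hk p a X e + hk p a Z e := by
    intro e
    set I := a.map (iterateFrobenius A p e)
    have hXI : I • (⊤ : Submodule A X) ≤ (I • (⊤ : Submodule A Y)).comap φ := by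
      rw [← Submodule.map_le_iff_le_comap, Submodule.map_smul'']
      exact Submodule.smul_mono le_rfl le_top
    have hYI : I • (⊤ : Submodule A Y) ≤ (I • (⊤ : Submodule A Z)).comap π := by
      rw [← Submodule.map_le_iff_le_comap, Submodule.map_smul'']
      exact Submodule.smul_mono le_rfl le_top
    let f' := Submodule.mapQ _ _ φ hXI
    let g' := Submodule.mapQ _ _ π hYI
    have hex : Function.Exact f' g' := by
      intro y
      obtain ⟨y, rfl⟩ := Submodule.Quotient.mk_surjective _ y
      constructor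
      · intro hy
        rw [Submodule.mapQ_apply, Submodule.Quotient.mk_eq_zero] at hy
        rw [show (I • (⊤ : Submodule A Z)) = (I • (⊤ : Submodule A Y)).map π by
          rw [Submodule.map_smul'', Submodule.map_top, Submodule.range_mkQ]] at hy
        obtain ⟨y', hy', he⟩ := hy
        obtain ⟨x, hx⟩ := (Submodule.Quotient.mk_eq_zero (LinearMap.range φ)).1
          (show π (y - y') = 0 by rw [map_sub, he, sub_self])
        refine ⟨Submodule.Quotient.mk x, (Submodule.Quotient.eq _).2 ?_⟩
        rw [hx, sub_sub_cancel_left]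
        exact neg_mem hy'
      · rintro ⟨x, hx⟩
        obtain ⟨x, rfl⟩ := Submodule.Quotient.mk_surjective _ x
        rw [← hx, Submodule.mapQ_apply, Submodule.mapQ_apply, Submodule.Quotient.mk_eq_zero,
          show π (φ x) = 0 from (Submodule.Quotient.mk_eq_zero _).2 ⟨x, rfl⟩]
        exact zero_mem _
    have he : Function.Exact (LinearMap.range f').subtype g'.rangeRestrict := fun b =>
      ⟨fun hb => ⟨⟨b, (hex b).1 (congrArg Subtype.val hb)⟩, rfl⟩,
        fun ⟨w, hw⟩ => Subtype.ext ((hex b).2 (hw ▸ w.2))⟩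
    have h1 := Module.length_eq_add_of_exact _ _ Subtype.val_injective g'.surjective_rangeRestrict he
    have h2 : Module.length A (Y ⧸ I • (⊤ : Submodule A Y)) ≤
        Module.length A (X ⧸ I • (⊤ : Submodule A X)) + Module.length A (Z ⧸ I • (⊤ : Submodule A Z)) := by
      rw [h1]
      exact add_le_add (Module.length_le_of_surjective _ f'.surjective_rangeRestrict)
        (Module.length_le_of_injective (LinearMap.range g').subtype Subtype.val_injective)
    refine (ENat.toNat_le_toNat h2 (WithTop.add_ne_top.2 ⟨length_hk_ne_top p a ha X e, length_hk_ne_top p a ha Z e⟩)).trans ?_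
    rw [ENat.toNat_add (length_hk_ne_top p a ha X e) (length_hk_ne_top p a ha Z e)]
    exact le_rfl
  rcases supportDim_le_of_top hd Z hZ with hs | ⟨j, hj, hjd⟩
  · refine ⟨0, fun e => ?_⟩
    have : hk p a Z e = 0 := by
      haveI : Subsingleton (Z ⧸ (a.map (iterateFrobenius A p e) • (⊤ : Submodule A Z))) :=
        (Submodule.mkQ_surjective _).subsingleton
      rw [hk, Module.length_eq_zero_iff.2 ‹_›]; rfl
    rw [zero_mul, add_zero]
    exact Nat.mul_le_mul_right _ ((hbase e).trans_eq (by rw [this, add_zero]))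
  · obtain ⟨μ, hμ0, hμ⟩ := exists_pow_le_map p a
    obtain ⟨C, hC⟩ := CycLib.samuelFun_bound a ha ha' j Z hjd
    refine ⟨C * (μ + 1) ^ j, fun e => ?_⟩
    have h1 : hk p a Z e ≤ C * ((μ + 1) * p ^ e) ^ j := by
      refine le_trans ?_ ((hC (μ * p ^ e)).trans (Nat.mul_le_mul_left _ (Nat.pow_le_pow_left ?_ _)))
      · exact ENat.toNat_le_toNat (Module.length_le_of_surjective (Submodule.factor (Submodule.smul_mono (hμ e) le_rfl))
          (Submodule.factor_surjective _)) (length_quot_ne_top (maxSupp_of_pow_le ha Z) le_rfl)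
      · have : 1 ≤ p ^ e := Nat.one_le_pow _ _ (Fact.out : p.Prime).pos
        rw [add_mul, one_mul]; omega
    calc hk p a Y e * p ^ e ≤ (hk p a X e + C * ((μ + 1) * p ^ e) ^ j) * p ^ e :=
          Nat.mul_le_mul_right _ ((hbase e).trans (Nat.add_le_add_left h1 _))
      _ = hk p a X e * p ^ e + C * (μ + 1) ^ j * p ^ (d * e) := by
          rw [← hj, add_mul, mul_pow, ← pow_mul, add_mul j 1 e, one_mul, pow_add, mul_comm e j]; ring

theorem hk_push [PerfectField (IsLocalRing.ResidueField A)] (e₀ : ℕ) (X : Type u) [AddCommGroup X] [Module A X]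
    [Module.Finite A X] (e : ℕ) (ha : IsLocalRing.maximalIdeal A ^ n ≤ a) :
    hk p a (Push (iterateFrobenius A p e₀) X) e = hk p a X (e + e₀) := by
  have hmap : (a.map (iterateFrobenius A p e)).map (iterateFrobenius A p e₀) =
      a.map (iterateFrobenius A p (e + e₀)) := by
    rw [Ideal.map_map]
    congr 1
    ext x
    simp only [RingHom.comp_apply, iterateFrobenius_def, ← pow_mul, ← pow_add]
  rw [hk, hk, Push.length_quot (exists_root p e₀) _ (by rw [hmap]; exact length_hk_ne_top p a ha X _), hmap]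

theorem length_loc_pi (P : PrimeSpectrum A) (m : ℕ) (X : Type u) [AddCommGroup X] [Module A X] :
    Module.length (Localization.AtPrime P.asIdeal) (LocalizedModule P.asIdeal.primeCompl (Fin m → X)) =
      (m : ℕ∞) * Module.length (Localization.AtPrime P.asIdeal) (LocalizedModule P.asIdeal.primeCompl X) := by
  induction m with
  | zero =>
    haveI : Subsingleton (LocalizedModule P.asIdeal.primeCompl (Fin 0 → X)) :=
      Module.notMem_support_iff.1 (by rw [Module.support_eq_empty]; exact Set.notMem_empty _)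
    rw [Module.length_eq_zero_iff.2 ‹_›]; simp
  | succ m ih =>
    let f : X →ₗ[A] (Fin (m + 1) → X) := LinearMap.single A (fun _ => X) 0
    let g : (Fin (m + 1) → X) →ₗ[A] (Fin m → X) := LinearMap.pi fun i => LinearMap.proj i.succ
    rw [CycLib.length_localized_add P f g (fun a b h => by simpa [f] using congrFun h 0) (fun y => ⟨Fin.cons 0 y, by
      funext i; simp [g]⟩) (fun z => ⟨fun hz => ⟨z 0, funext fun i => by
        induction i using Fin.cases with
        | zero => simp [f]
        | succ i => exact (show f (z 0) i.succ = 0 by simp [f, Fin.succ_ne_zero]).trans (congrFun hz i).symm⟩, by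
      rintro ⟨x, rfl⟩
      funext i
      simp [f, g, Fin.succ_ne_zero]⟩), ih]
    push_cast
    ring

include hd ha ha' in
theorem exists_limit (hF : (frobenius A p).Finite) [PerfectField (IsLocalRing.ResidueField A)] :
    ∃ c : ℝ, 0 < c ∧ Tendsto (fun e : ℕ => (hk p a A e : ℝ) / (p : ℝ) ^ (d * e)) atTop (𝓝 c) := by
  classical
  have hp : 1 < p := (Fact.out : p.Prime).one_lt
  obtain ⟨N, hN⟩ := IsNoetherianRing.isNilpotent_nilradical A
  obtain ⟨e₀, he₀⟩ : ∃ e₀, N ≤ p ^ e₀ := ⟨N, (Nat.lt_pow_self hp).le⟩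
  let M := Push (iterateFrobenius A p e₀) A
  haveI : Module.Finite A M := push_finite p hF e₀ A
  have hkill : nilradical A ≤ Module.annihilator A M := fun r hr => Module.mem_annihilator.2 fun z => by
    obtain ⟨z, rfl⟩ := (Push.of (iterateFrobenius A p e₀) A).surjective z
    have : r ^ p ^ e₀ = 0 := by
      have h := Ideal.pow_mem_pow hr N
      rw [hN, Ideal.zero_eq_bot, Ideal.mem_bot] at h
      exact pow_eq_zero_of_le he₀ h
    rw [Push.smul_of, iterateFrobenius_def, this, zero_smul, map_zero]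
  let X := Push (iterateFrobenius A p 1) M
  haveI : Module.Finite A X := push_finite p hF 1 M
  let Y := Fin (p ^ d) → M
  have hkX : nilradical A ≤ Module.annihilator A X := fun r hr => Module.mem_annihilator.2 fun z => by
    obtain ⟨z, rfl⟩ := (Push.of (iterateFrobenius A p 1) M).surjective z
    rw [Push.smul_of, Module.mem_annihilator.1 (hkill ?_) z, map_zero]
    rw [iterateFrobenius_def]
    exact Ideal.pow_mem_of_mem _ hr _ (pow_pos (zero_lt_one.trans hp) 1)
  have hkY : nilradical A ≤ Module.annihilator A Y := fun r hr => Module.mem_annihilator.2 fun z =>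
    funext fun i => Module.mem_annihilator.1 (hkill hr) (z i)
  have hlen : ∀ P : PrimeSpectrum A, ringKrullDim (A ⧸ P.asIdeal) = d →
      Module.length (Localization.AtPrime P.asIdeal) (LocalizedModule P.asIdeal.primeCompl X) =
        Module.length (Localization.AtPrime P.asIdeal) (LocalizedModule P.asIdeal.primeCompl Y) := fun P hP => by
    rw [(length_localized_push p hF d hd P hP M).2, length_loc_pi]
  obtain ⟨φ, hφ⟩ := exists_iso_at_top hd X Y hkX hkY hlen
  obtain ⟨ψ, hψ⟩ := exists_iso_at_top hd Y X hkY hkX fun P hP => (hlen P hP).symm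
  obtain ⟨C₁, hC₁⟩ := hk_le_of_iso p hd a ha' ha X Y φ hφ
  obtain ⟨C₂, hC₂⟩ := hk_le_of_iso p hd a ha' ha Y X ψ hψ
  have hY : ∀ e, hk p a Y e = p ^ d * hk p a M e := fun e => by
    set I := a.map (iterateFrobenius A p e)
    let π : Y →ₗ[A] (Fin (p ^ d) → M ⧸ (I • (⊤ : Submodule A M))) :=
      LinearMap.pi fun i => (I • (⊤ : Submodule A M)).mkQ ∘ₗ LinearMap.proj i
    have hπ : Function.Surjective π := fun y =>
      ⟨fun i => (Submodule.mkQ_surjective _ (y i)).choose, funext fun i => (Submodule.mkQ_surjective _ (y i)).choose_spec⟩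
    have hker : LinearMap.ker π = I • (⊤ : Submodule A Y) := by
      refine le_antisymm (fun y hy => ?_) (Submodule.smul_le.2 fun r hr z _ => ?_)
      · rw [show y = ∑ i, (Pi.single i (y i) : Y) from (Finset.univ_sum_single y).symm]
        refine Submodule.sum_mem _ fun i _ => ?_
        have hyi : y i ∈ I • (⊤ : Submodule A M) := (Submodule.Quotient.mk_eq_zero _).1 (congrFun hy i)
        exact (Submodule.map_le_iff_le_comap.1 ((Submodule.map_smul'' I ⊤
          (LinearMap.single A (fun _ : Fin (p ^ d) => M) i)).trans_le (Submodule.smul_mono le_rfl le_top))) hyi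
      · exact funext fun i => (Submodule.Quotient.mk_eq_zero _).2 (Submodule.smul_mem_smul hr trivial)
    rw [hk, hk, ((Submodule.quotEquivOfEq _ _ hker.symm).trans (π.quotKerEquivOfSurjective hπ)).length_eq,
      Module.length_pi_of_fintype, Finset.sum_const, Finset.card_univ, Fintype.card_fin, nsmul_eq_mul,
      ENat.toNat_mul, ENat.toNat_natCast]
  have hX : ∀ e, hk p a X e = hk p a M (e + 1) := fun e => hk_push p a 1 M e ha
  let g : ℕ → ℝ := fun e => (hk p a M e : ℝ) / (p : ℝ) ^ (d * e)
  have hp0 : (0 : ℝ) < p := by exact_mod_cast (zero_lt_one.trans hp)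
  have hdist : ∀ e, dist (g e) (g (e + 1)) ≤ ((C₁ + C₂ : ℕ) : ℝ) / (p : ℝ) ^ d * ((1 : ℝ) / p) ^ e := by
    intro e
    have h1 := hC₁ e
    have h2 := hC₂ e
    rw [hY, hX] at h1 h2
    have h1' : (p : ℝ) ^ d * hk p a M e * (p : ℝ) ^ e ≤
        (hk p a M (e + 1) : ℝ) * (p : ℝ) ^ e + (C₁ : ℝ) * (p : ℝ) ^ (d * e) := by exact_mod_cast h1
    have h2' : (hk p a M (e + 1) : ℝ) * (p : ℝ) ^ e ≤
        (p : ℝ) ^ d * hk p a M e * (p : ℝ) ^ e + (C₂ : ℝ) * (p : ℝ) ^ (d * e) := by exact_mod_cast h2
    have habs : |(p : ℝ) ^ d * hk p a M e - hk p a M (e + 1)| * (p : ℝ) ^ e ≤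
        ((C₁ + C₂ : ℕ) : ℝ) * (p : ℝ) ^ (d * e) := by
      rw [← abs_of_pos (pow_pos hp0 e), ← abs_mul, abs_le]
      push_cast
      have n1 : (0 : ℝ) ≤ (C₁ : ℝ) * (p : ℝ) ^ (d * e) := by positivity
      have n2 : (0 : ℝ) ≤ (C₂ : ℝ) * (p : ℝ) ^ (d * e) := by positivity
      rw [sub_mul, add_mul]
      constructor <;> linarith
    have hg : dist (g e) (g (e + 1)) =
        |(p : ℝ) ^ d * hk p a M e - hk p a M (e + 1)| / (p : ℝ) ^ (d * e + d) := by
      rw [Real.dist_eq, ← abs_of_pos (pow_pos hp0 (d * e + d)), ← abs_div]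
      congr 1
      simp only [g, mul_add, mul_one, pow_add]
      field_simp
    rw [hg, pow_add, div_pow, one_pow, div_mul_div_comm, mul_one, div_le_div_iff₀ (by positivity) (by positivity)]
    calc |(p : ℝ) ^ d * hk p a M e - hk p a M (e + 1)| * ((p : ℝ) ^ d * (p : ℝ) ^ e)
        = |(p : ℝ) ^ d * hk p a M e - hk p a M (e + 1)| * (p : ℝ) ^ e * (p : ℝ) ^ d := by ring
      _ ≤ ((C₁ + C₂ : ℕ) : ℝ) * (p : ℝ) ^ (d * e) * (p : ℝ) ^ d :=
          mul_le_mul_of_nonneg_right habs (by positivity)
      _ = _ := by ring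
  obtain ⟨c, hc⟩ := cauchySeq_tendsto_of_complete (cauchySeq_of_le_geometric ((1 : ℝ) / p)
    (((C₁ + C₂ : ℕ) : ℝ) / (p : ℝ) ^ d) (by rw [div_lt_one hp0]; exact_mod_cast hp) hdist)
  have hA : Tendsto (fun e : ℕ => (hk p a A e : ℝ) / (p : ℝ) ^ (d * e)) atTop (𝓝 (c / (p : ℝ) ^ (d * e₀))) := by
    rw [← tendsto_add_atTop_iff_nat e₀]
    refine (hc.div_const _).congr fun e => ?_
    simp only [g, M]
    rw [hk_push p a e₀ A e ha, mul_add, pow_add, div_div]
  refine ⟨_, ?_, hA⟩
  obtain ⟨L, hL0, hL⟩ := exists_lim_pos a ha ha' A d (by rw [Module.supportDim_self_eq_ringKrullDim, hd])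
  have hat : Tendsto (fun e : ℕ => p ^ e) atTop atTop := tendsto_pow_atTop_atTop_of_one_lt hp
  refine hL0.trans_le (le_of_tendsto_of_tendsto (hL.comp hat) hA (Eventually.of_forall fun e => ?_))
  simp only [Function.comp]
  rw [Nat.cast_pow, ← pow_mul, mul_comm e d]
  refine div_le_div_of_nonneg_right (Nat.cast_le.2 ?_) (by positivity)
  exact ENat.toNat_le_toNat (Module.length_le_of_surjective
    (Submodule.factor (Submodule.smul_mono (map_frobenius_pow_le p a e) le_rfl)) (Submodule.factor_surjective _))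
    (length_hk_ne_top p a ha A e)

end HK

end Groth.Agent.GrLib8.Samuel
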