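import Groth.Agent.GrLib8.Samuel.Growth
import Groth.Agent.CycLib.SamuelAssoc
import Mathlib.Algebra.CharP.Frobenius
import Mathlib.FieldTheory.Perfect

/-!
# Restriction of scalars along a Frobenius power
-/

set_option autoImplicit false
set_option linter.style.haveILetI false

universe u

open Filter Topology
open Groth.Agent.HSLib

namespace Groth.Agent.GrLib8.Samuel

variable {A : Type u} [CommRing A]

/-- `M` with scalars acting through `φ`. -/
def Push (_φ : A →+* A) (M : Type u) : Type u := M

namespace Push

variable (φ : A →+* A) (M : Type u) [AddCommGroup M] [Module A M]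

instance : AddCommGroup (Push φ M) := inferInstanceAs (AddCommGroup M)

instance : Module A (Push φ M) := Module.compHom M φ

/-- The identity map. -/
def of : M ≃+ Push φ M := AddEquiv.refl M

variable {φ M}

theorem smul_of (r : A) (m : M) : r • of φ M m = of φ M (φ r • m) := rfl

/-- A submodule, seen in the pushforward. -/
def sub (φ : A →+* A) (S : Submodule A M) : Submodule A (Push φ M) where
  carrier := {z | (of φ M).symm z ∈ S}
  add_mem' ha hb := S.add_mem ha hb
  zero_mem' := S.zero_mem
  smul_mem' r z hz := S.smul_mem (φ r) hz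

theorem mem_sub {S : Submodule A M} {m : M} : of φ M m ∈ sub φ S ↔ m ∈ S := Iff.rfl

theorem smul_top (I : Ideal A) :
    I • (⊤ : Submodule A (Push φ M)) = sub φ (I.map φ • (⊤ : Submodule A M)) := by
  refine le_antisymm (Submodule.smul_le.2 fun r hr z _ => ?_) ?_
  · obtain ⟨m, rfl⟩ := (of φ M).surjective z
    rw [smul_of, mem_sub]
    exact Submodule.smul_mem_smul (Ideal.mem_map_of_mem φ hr) Submodule.mem_top
  intro z hz
  obtain ⟨m, rfl⟩ := (of φ M).surjective z
  rw [mem_sub] at hz
  refine Submodule.smul_induction_on hz ?_ (fun x y hx hy => Submodule.add_mem _ hx hy)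
  intro r hr m _
  induction hr using Submodule.span_induction generalizing m with
  | mem r hr =>
    obtain ⟨i, hi, rfl⟩ := hr
    exact Submodule.smul_mem_smul hi (Submodule.mem_top (R := A) (x := of φ M m))
  | zero => rw [zero_smul]; exact Submodule.zero_mem _
  | add a b _ _ ha hb => rw [add_smul, map_add]; exact Submodule.add_mem _ (ha m trivial) (hb m trivial)
  | smul c a _ ha => rw [smul_eq_mul, mul_comm, mul_smul]; exact ha (c • m) trivial

/-- A linear map, seen between pushforwards. -/
def map (φ : A →+* A) {N : Type u} [AddCommGroup N] [Module A N] (f : M →ₗ[A] N) : Push φ M →ₗ[A] Push φ N where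
  toFun z := of φ N (f ((of φ M).symm z))
  map_add' a b := f.map_add _ _
  map_smul' r a := f.map_smul (φ r) _

theorem map_injective {N : Type u} [AddCommGroup N] [Module A N] {f : M →ₗ[A] N} (h : Function.Injective f) :
    Function.Injective (map φ f) := fun _ _ hxy => h hxy

theorem map_surjective {N : Type u} [AddCommGroup N] [Module A N] {f : M →ₗ[A] N} (h : Function.Surjective f) :
    Function.Surjective (map φ f) := h

theorem map_exact {N N' : Type u} [AddCommGroup N] [Module A N] [AddCommGroup N'] [Module A N'] {f : M →ₗ[A] N}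
    {g : N →ₗ[A] N'} (h : Function.Exact f g) : Function.Exact (map φ f) (map φ g) := h

/-- Equivalences are preserved. -/
noncomputable def congr (φ : A →+* A) {N : Type u} [AddCommGroup N] [Module A N] (e : M ≃ₗ[A] N) :
    Push φ M ≃ₗ[A] Push φ N :=
  LinearEquiv.ofBijective (map φ e.toLinearMap) ⟨map_injective e.injective, map_surjective e.surjective⟩

variable [IsLocalRing A]

theorem isSimple (hsurj : ∀ r : A, ∃ s : A, r - φ s ∈ IsLocalRing.maximalIdeal A) [IsSimpleModule A M] :
    IsSimpleModule A (Push φ M) := by
  have : Nontrivial M := IsSimpleModule.nontrivial A M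
  haveI : Nontrivial (Push φ M) := this
  refine (isSimpleModule_iff _ _).2 ⟨fun S => ?_⟩
  by_cases hS : S = ⊥
  · exact Or.inl hS
  refine Or.inr (eq_top_iff.2 fun z _ => ?_)
  obtain ⟨x, hxS, hx0⟩ := Submodule.exists_mem_ne_zero_of_ne_bot hS
  obtain ⟨m, rfl⟩ := (of φ M).surjective x
  obtain ⟨w, rfl⟩ := (of φ M).surjective z
  have hm : m ≠ 0 := fun h => hx0 (by rw [h, map_zero])
  obtain ⟨r, rfl⟩ : ∃ r : A, r • m = w := by
    have h := IsSimpleModule.toSpanSingleton_surjective A hm
    exact h w
  obtain ⟨s, hs⟩ := hsurj r
  obtain ⟨I, hI, ⟨e⟩⟩ := isSimpleModule_iff_quot_maximal.1 ‹IsSimpleModule A M›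
  have hkill : ∀ a ∈ IsLocalRing.maximalIdeal A, a • m = 0 := fun a ha => e.injective (by
    rw [map_smul, map_zero]
    obtain ⟨t, ht⟩ := Submodule.Quotient.mk_surjective _ (e m)
    rw [← ht, ← Submodule.Quotient.mk_smul, Submodule.Quotient.mk_eq_zero, IsLocalRing.eq_maximalIdeal hI]
    exact Ideal.mul_mem_right _ _ ha)
  have : of φ M (r • m) = s • of φ M m := by
    rw [smul_of]
    refine congrArg _ (sub_eq_zero.1 ?_)
    rw [← sub_smul]
    exact hkill _ hs
  rw [this]
  exact S.smul_mem s hxS

theorem length_eq (hsurj : ∀ r : A, ∃ s : A, r - φ s ∈ IsLocalRing.maximalIdeal A) (h : IsFiniteLength A M) :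
    Module.length A (Push φ M) = Module.length A M := by
  induction h with
  | of_subsingleton =>
    rename_i M _ _ hM
    haveI : Subsingleton (Push φ M) := hM
    rw [Module.length_eq_zero_iff.2 ‹_›, Module.length_eq_zero_iff.2 hM]
  | of_simple_quotient hN ih =>
    rename_i M _ _ N _
    rw [Module.length_eq_add_of_exact (map φ N.subtype) (map φ N.mkQ) (map_injective Subtype.val_injective)
      (map_surjective (Submodule.mkQ_surjective N)) (map_exact (LinearMap.exact_subtype_mkQ N)), ih,
      Module.length_eq_add_of_exact N.subtype N.mkQ Subtype.val_injective (Submodule.mkQ_surjective N)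
      (LinearMap.exact_subtype_mkQ N)]
    haveI := isSimple (M := M ⧸ N) hsurj
    rw [Module.length_eq_one A (Push φ (M ⧸ N)), Module.length_eq_one A (M ⧸ N)]

/-- Quotients of pushforwards. -/
noncomputable def quotEquiv (S : Submodule A M) : (Push φ M ⧸ sub φ S) ≃ₗ[A] Push φ (M ⧸ S) :=
  (Submodule.quotEquivOfEq _ _ (by
    ext z
    exact (Submodule.Quotient.mk_eq_zero S).symm :
      sub φ S = LinearMap.ker (map φ S.mkQ))).trans
    ((map φ S.mkQ).quotKerEquivOfSurjective (map_surjective S.mkQ_surjective))

theorem length_quot (hsurj : ∀ r : A, ∃ s : A, r - φ s ∈ IsLocalRing.maximalIdeal A) (I : Ideal A)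
    (hfl : Module.length A (M ⧸ (I.map φ • (⊤ : Submodule A M))) ≠ ⊤) :
    Module.length A (Push φ M ⧸ (I • (⊤ : Submodule A (Push φ M)))) =
      Module.length A (M ⧸ (I.map φ • (⊤ : Submodule A M))) := by
  rw [smul_top, (quotEquiv _).length_eq, length_eq hsurj (Module.length_ne_top_iff.1 hfl)]

end Push

theorem length_loc_congr (P : PrimeSpectrum A) {N N' : Type u} [AddCommGroup N] [Module A N] [AddCommGroup N']
    [Module A N'] (e : N ≃ₗ[A] N') :
    Module.length (Localization.AtPrime P.asIdeal) (LocalizedModule P.asIdeal.primeCompl N) =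
      Module.length (Localization.AtPrime P.asIdeal) (LocalizedModule P.asIdeal.primeCompl N') :=
  (LinearEquiv.ofBijective (LocalizedModule.map P.asIdeal.primeCompl e.toLinearMap)
    ⟨IsLocalizedModule.map_injective P.asIdeal.primeCompl (LocalizedModule.mkLinearMap _ _)
        (LocalizedModule.mkLinearMap _ _) e.toLinearMap e.injective,
      IsLocalizedModule.map_surjective P.asIdeal.primeCompl (LocalizedModule.mkLinearMap _ _)
        (LocalizedModule.mkLinearMap _ _) e.toLinearMap e.surjective⟩).length_eq

section Frob

variable (p : ℕ) [Fact p.Prime] [CharP A p]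

theorem exists_gens_of_finite {B : Type u} [CommRing B] (f : A →+* B) (hf : f.Finite) :
    ∃ s : Finset B, ∀ a : B, ∃ c : B → A, a = ∑ g ∈ s, f (c g) * g := by
  letI := f.toAlgebra
  haveI : Module.Finite A B := hf
  obtain ⟨s, hs⟩ := (inferInstance : Module.Finite A B).fg_top
  refine ⟨s, fun a => ?_⟩
  obtain ⟨c, -, hc⟩ := Submodule.mem_span_finset.1 (hs ▸ Submodule.mem_top (x := a))
  exact ⟨c, hc.symm.trans (Finset.sum_congr rfl fun g _ => Algebra.smul_def _ _)⟩

theorem exists_gens (hF : (frobenius A p).Finite) (e : ℕ) :
    ∃ s : Finset A, ∀ a : A, ∃ c : A → A, a = ∑ g ∈ s, iterateFrobenius A p e (c g) * g := by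
  classical
  have hfin : (iterateFrobenius A p e).Finite := by
    induction e with
    | zero =>
      rw [iterateFrobenius_zero]
      exact RingHom.Finite.id A
    | succ e ih =>
      rw [show iterateFrobenius A p (e + 1) = (frobenius A p).comp (iterateFrobenius A p e) from
        RingHom.ext fun x => by rw [RingHom.comp_apply, iterateFrobenius_def, iterateFrobenius_def, frobenius_def,
          ← pow_mul, pow_succ]]
      exact hF.comp ih
  exact exists_gens_of_finite _ hfin

theorem push_finite (hF : (frobenius A p).Finite) (e : ℕ) (M : Type u) [AddCommGroup M] [Module A M]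
    [Module.Finite A M] : Module.Finite A (Push (iterateFrobenius A p e) M) := by
  classical
  obtain ⟨s, hs⟩ := exists_gens p hF e
  obtain ⟨t, ht⟩ := (inferInstance : Module.Finite A M).fg_top
  refine ⟨⟨(s ×ˢ t).image fun gm => Push.of _ M (gm.1 • gm.2), eq_top_iff.2 fun z _ => ?_⟩⟩
  obtain ⟨m, rfl⟩ := (Push.of (iterateFrobenius A p e) M).surjective z
  obtain ⟨b, -, rfl⟩ := Submodule.mem_span_finset.1 (ht ▸ Submodule.mem_top (x := m))
  rw [map_sum]
  refine Submodule.sum_mem _ fun x hx => ?_
  obtain ⟨c, hc⟩ := hs (b x)
  rw [hc, Finset.sum_smul, map_sum]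
  refine Submodule.sum_mem _ fun g hg => ?_
  rw [mul_smul, ← Push.smul_of]
  exact Submodule.smul_mem _ _ (Submodule.subset_span (Finset.mem_image.2 ⟨(g, x), Finset.mem_product.2 ⟨hg, hx⟩, rfl⟩))

theorem exists_root [IsLocalRing A] [PerfectField (IsLocalRing.ResidueField A)] (e : ℕ) (r : A) :
    ∃ s : A, r - iterateFrobenius A p e s ∈ IsLocalRing.maximalIdeal A := by
  haveI : CharP (IsLocalRing.ResidueField A) p := by
    refine (CharP.charP_iff_prime_eq_zero Fact.out).2 ?_
    rw [← map_natCast (IsLocalRing.residue A), CharP.cast_eq_zero, map_zero]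
  haveI : PerfectRing (IsLocalRing.ResidueField A) p := PerfectField.toPerfectRing p
  obtain ⟨t, ht⟩ := (bijective_iterateFrobenius (IsLocalRing.ResidueField A) p e).2 (IsLocalRing.residue A r)
  obtain ⟨s, rfl⟩ := IsLocalRing.residue_surjective t
  refine ⟨s, (IsLocalRing.residue_eq_zero_iff _).1 ?_⟩
  rw [map_sub, iterateFrobenius_def, map_pow, ← ht, iterateFrobenius_def, sub_self]

variable [IsNoetherianRing A] [IsLocalRing A] [PerfectField (IsLocalRing.ResidueField A)]

theorem map_frobenius_pow_le (I : Ideal A) (e : ℕ) : I.map (iterateFrobenius A p e) ≤ I ^ p ^ e :=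
  Ideal.map_le_iff_le_comap.2 fun x hx => by
    rw [Ideal.mem_comap, iterateFrobenius_def]
    exact Ideal.pow_mem_pow hx _

open Classical in
/-- The length at a top prime is multiplied by `p ^ d`. -/
theorem length_localized_push (hF : (frobenius A p).Finite) (d : ℕ) (hd : ringKrullDim A = d)
    (P : PrimeSpectrum A) (hP : ringKrullDim (A ⧸ P.asIdeal) = d) (M : Type u) [AddCommGroup M] [Module A M]
    [hMfin : Module.Finite A M] :
    Module.length (Localization.AtPrime P.asIdeal) (LocalizedModule P.asIdeal.primeCompl M) ≠ ⊤ ∧
    Module.length (Localization.AtPrime P.asIdeal)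
        (LocalizedModule P.asIdeal.primeCompl (Push (iterateFrobenius A p 1) M)) =
      (p ^ d : ℕ) * Module.length (Localization.AtPrime P.asIdeal) (LocalizedModule P.asIdeal.primeCompl M) := by
  have hdle : ∀ Q : PrimeSpectrum A, ringKrullDim (A ⧸ Q.asIdeal) ≤ d := fun Q => hd ▸ ringKrullDim_quotient_le _
  have hfinL : ∀ (N : Type u) [AddCommGroup N] [Module A N] [Module.Finite A N],
      Module.length (Localization.AtPrime P.asIdeal) (LocalizedModule P.asIdeal.primeCompl N) ≠ ⊤ := by
    intro N _ _ hN
    refine IsNoetherianRing.induction_on_isQuotientEquivQuotientPrime (A := A) (M := N) hN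
      (motive := fun N _ _ _ =>
        Module.length (Localization.AtPrime P.asIdeal) (LocalizedModule P.asIdeal.primeCompl N) ≠ ⊤) ?_ ?_ ?_
    · intro N _ _ _ _
      haveI : Subsingleton (LocalizedModule P.asIdeal.primeCompl N) := ⟨fun a b => by
        induction a using LocalizedModule.induction_on with
        | _ m s =>
          induction b using LocalizedModule.induction_on with
          | _ m' s' => rw [Subsingleton.elim m 0, Subsingleton.elim m' 0, LocalizedModule.zero_mk, LocalizedModule.zero_mk]⟩
      rw [Module.length_eq_zero_iff.2 ‹_›]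
      simp
    · intro N _ _ _ q e
      rw [length_loc_congr P e,
        CycLib.length_localized_quot_prime q P d (hdle q) hP]
      split_ifs <;> simp
    · intro N₁ _ _ _ N₂ _ _ _ N₃ _ _ _ f g hf hg hfg h1 h3
      rw [CycLib.length_localized_add P f g hf hg hfg]
      exact WithTop.add_ne_top.2 ⟨h1, h3⟩
  refine ⟨hfinL M, ?_⟩
  refine IsNoetherianRing.induction_on_isQuotientEquivQuotientPrime (A := A) (M := M) hMfin
    (motive := fun N _ _ _ => Module.length (Localization.AtPrime P.asIdeal)
      (LocalizedModule P.asIdeal.primeCompl (Push (iterateFrobenius A p 1) N)) =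
      (p ^ d : ℕ) * Module.length (Localization.AtPrime P.asIdeal) (LocalizedModule P.asIdeal.primeCompl N)) ?_ ?_ ?_
  · intro N _ _ _ hN
    have h0 : ∀ (X : Type u) [AddCommGroup X] [Module A X] [Subsingleton X],
        Module.length (Localization.AtPrime P.asIdeal) (LocalizedModule P.asIdeal.primeCompl X) = 0 := by
      intro X _ _ _
      refine Module.length_eq_zero_iff.2 (Module.notMem_support_iff.1 ?_)
      rw [Module.support_eq_empty]
      exact Set.notMem_empty _
    haveI : Subsingleton (Push (iterateFrobenius A p 1) N) := hN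
    rw [h0, h0, mul_zero]
  · intro N _ _ _ q e
    rw [length_loc_congr P e, length_loc_congr P (Push.congr (iterateFrobenius A p 1) e),
      CycLib.length_localized_quot_prime q P d (hdle q) hP]
    set F := iterateFrobenius A p 1
    set X := Push F (A ⧸ q.asIdeal)
    haveI : Module.Finite A X := push_finite p hF 1 _
    have hkill : q.asIdeal ≤ Module.annihilator A X := fun r hr => Module.mem_annihilator.2 fun z => by
      obtain ⟨z, rfl⟩ := (Push.of F (A ⧸ q.asIdeal)).surjective z
      obtain ⟨a, rfl⟩ := Ideal.Quotient.mk_surjective z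
      rw [Push.smul_of, Algebra.smul_def, Ideal.Quotient.algebraMap_eq, ← map_mul,
        Ideal.Quotient.eq_zero_iff_mem.2 (Ideal.mul_mem_right _ _ (show F r ∈ q.asIdeal from by
          rw [iterateFrobenius_def]; exact Ideal.pow_mem_of_mem _ hr _ (pow_pos (Fact.out : p.Prime).pos 1))), map_zero]
    have hzero : ∀ Q : PrimeSpectrum A, ringKrullDim (A ⧸ Q.asIdeal) = d → q ≠ Q →
        Module.length (Localization.AtPrime Q.asIdeal) (LocalizedModule Q.asIdeal.primeCompl X) = 0 := by
      intro Q hQ hne
      refine Module.length_eq_zero_iff.2 (Module.notMem_support_iff.1 fun hsupp => ?_)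
      have hle : q.asIdeal ≤ Q.asIdeal := hkill.trans (Module.annihilator_le_of_mem_support hsupp)
      have h1 : Module.length (Localization.AtPrime Q.asIdeal) (LocalizedModule Q.asIdeal.primeCompl (A ⧸ q.asIdeal)) = 0 := by
        rw [CycLib.length_localized_quot_prime q Q d (hdle q) hQ, if_neg hne]
      refine Module.notMem_support_iff.2 (Module.length_eq_zero_iff.1 h1) ?_
      rw [Module.support_eq_zeroLocus, Ideal.annihilator_quotient]
      exact hle
    by_cases hqP : q = P
    · subst hqP
      rw [if_pos rfl, mul_one]
      have hm : IsLocalRing.maximalIdeal A ^ 1 ≤ IsLocalRing.maximalIdeal A := (pow_one _).le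
      have hlim := fun Q : PrimeSpectrum A => exists_lim (IsLocalRing.maximalIdeal A) hm le_rfl (A ⧸ Q.asIdeal) d
        (by rw [Module.supportDim_quotient_eq_ringKrullDim]; exact hdle Q)
      choose e he0 he using hlim
      obtain ⟨ε, hεpos, hε⟩ := exists_lim_pos (IsLocalRing.maximalIdeal A) hm le_rfl (A ⧸ q.asIdeal) d
        (by rw [Module.supportDim_quotient_eq_ringKrullDim]; exact hP)
      have heq : e q = ε := tendsto_nhds_unique (he q) hε
      have hdX : Module.supportDim A X ≤ d :=
        (Module.supportDim_le_ringKrullDim A X).trans hd.le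
      have hassoc := CycLib.samuel_assoc (IsLocalRing.maximalIdeal A) hm le_rfl d (fun Q => (d.factorial : ℝ) * e Q)
        (fun Q _ => ((he Q).const_mul (d.factorial : ℝ)).congr fun t => (mul_div_assoc _ _ _).symm) X hdX
      rw [finsum_eq_single _ q (fun Q hQ => by
        by_cases hQd : ringKrullDim (A ⧸ Q.asIdeal) = d
        · rw [finsum_eq_if, if_pos hQd, hzero Q hQd hQ.symm]; simp
        · rw [finsum_eq_if, if_neg hQd]), finsum_eq_if, if_pos hP] at hassoc
      obtain ⟨c, hc⟩ : ∃ c : ℕ, ∀ t : ℕ, IsLocalRing.maximalIdeal A ^ (p * t + c) ≤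
          (IsLocalRing.maximalIdeal A ^ t).map F := by
        obtain ⟨s, hs⟩ := IsNoetherian.noetherian (IsLocalRing.maximalIdeal A)
        refine ⟨s.card * p, fun t => ?_⟩
        rw [Ideal.map_pow]
        have hsx : ∀ x ∈ s, x ∈ IsLocalRing.maximalIdeal A := fun x hx => hs ▸ Submodule.subset_span hx
        have key : ∀ s' : Finset A, s' ⊆ s → ∀ t : ℕ,
            Ideal.span (s' : Set A) ^ (p * t + s'.card * p) ≤
              (IsLocalRing.maximalIdeal A).map F ^ t := by
          intro s' hs'
          induction s' using Finset.induction with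
          | empty =>
            intro t
            rcases Nat.eq_zero_or_pos t with rfl | ht
            · simp
            · have : p * t + 0 * p ≠ 0 := by
                have := Nat.mul_pos (Fact.out : p.Prime).pos ht
                omega
              rw [Finset.card_empty, Finset.coe_empty, Ideal.span_empty, ← Ideal.zero_eq_bot, zero_pow this]
              exact bot_le
          | insert x s' hx ih =>
            intro t
            have hxF : x ^ p ∈ (IsLocalRing.maximalIdeal A).map F := by
              have := Ideal.mem_map_of_mem F (hsx x (hs' (Finset.mem_insert_self x s')))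
              rwa [iterateFrobenius_def, pow_one] at this
            rw [Finset.coe_insert, Ideal.span_insert, ← Submodule.add_eq_sup, add_pow, Ideal.sum_eq_sup]
            refine Finset.sup_le fun m hm' => Ideal.mul_le_left.trans ?_
            rw [Finset.card_insert_of_notMem hx]
            have hm0 : p * (m / p) + m % p = m := Nat.div_add_mod m p
            have hmp : m % p < p := Nat.mod_lt _ (Fact.out : p.Prime).pos
            have hx1 : Ideal.span {x} ^ m ≤ (IsLocalRing.maximalIdeal A).map F ^ (m / p) := by
              rw [← hm0, pow_add, pow_mul, Ideal.span_singleton_pow, hm0]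
              exact Ideal.mul_le_left.trans
                (Ideal.pow_right_mono ((Ideal.span_singleton_le_iff_mem _).2 hxF) _)
            by_cases hle : t ≤ m / p
            · exact Ideal.mul_le_left.trans (hx1.trans (Ideal.pow_le_pow_right hle))
            · refine (Ideal.mul_mono hx1 ((Ideal.pow_le_pow_right ?_).trans
                (ih ((Finset.subset_insert x s').trans hs') (t - m / p)))).trans (by
                  rw [← pow_add, Nat.add_sub_cancel' (not_le.1 hle).le])
              have h1 : p * (t - m / p) + p * (m / p) = p * t := by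
                rw [← Nat.mul_add, Nat.sub_add_cancel (not_le.1 hle).le]
              rw [add_mul, one_mul]
              omega
        refine (le_of_eq ?_).trans (key s le_rfl t)
        rw [show IsLocalRing.maximalIdeal A = Ideal.span (s : Set A) from hs.symm]
      have hlow : ∀ t, hs (IsLocalRing.maximalIdeal A) X t =
          (Module.length A ((A ⧸ q.asIdeal) ⧸ ((IsLocalRing.maximalIdeal A ^ t).map F •
            (⊤ : Submodule A (A ⧸ q.asIdeal))))).toNat := by
        intro t
        rw [hs, Push.length_quot (exists_root p 1) _ (length_quot_ne_top (t := p * t + c)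
          (maxSupp_of_pow_le hm _) (Submodule.smul_mono (hc t) le_rfl))]
      have hX : Tendsto (fun t : ℕ => (hs (IsLocalRing.maximalIdeal A) X t : ℝ) / (t : ℝ) ^ d) atTop
          (𝓝 ((p : ℝ) ^ d * ε)) := by
        have hmax := maxSupp_of_pow_le hm (A ⧸ q.asIdeal)
        have hp0 : 0 < p := (Fact.out : p.Prime).pos
        have hup := tendsto_mul_arg (f := fun t => (hs (IsLocalRing.maximalIdeal A) (A ⧸ q.asIdeal) (t + c) : ℝ))
          (tendsto_shift (f := fun t => (hs (IsLocalRing.maximalIdeal A) (A ⧸ q.asIdeal) t : ℝ)) hε c) hp0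
        refine tendsto_of_tendsto_of_tendsto_of_le_of_le (tendsto_mul_arg hε hp0) hup (fun t => ?_) (fun t => ?_)
        all_goals
          rw [hlow]
          refine div_le_div_of_nonneg_right (Nat.cast_le.2 ?_) (by positivity)
          refine ENat.toNat_le_toNat ?_ (length_quot_ne_top (t := p * t + c) hmax ?_)
        · exact Module.length_le_of_surjective (Submodule.factor (Submodule.smul_mono
            ((map_frobenius_pow_le p _ 1).trans (by rw [pow_one, ← pow_mul, mul_comm])) le_rfl))
            (Submodule.factor_surjective _)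
        · exact Submodule.smul_mono (hc t) le_rfl
        · exact Module.length_le_of_surjective (Submodule.factor (Submodule.smul_mono (hc t) le_rfl))
            (Submodule.factor_surjective _)
        · exact le_rfl
      have huniq := tendsto_nhds_unique ((hX.const_mul (d.factorial : ℝ)).congr fun t => (mul_div_assoc _ _ _).symm)
        hassoc
      rw [heq] at huniq
      have hfac : (d.factorial : ℝ) * ε ≠ 0 := (mul_pos (by positivity) hεpos).ne'
      have hnat : (Module.length (Localization.AtPrime q.asIdeal)
          (LocalizedModule q.asIdeal.primeCompl X)).toNat = p ^ d := by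
        have : ((Module.length (Localization.AtPrime q.asIdeal)
            (LocalizedModule q.asIdeal.primeCompl X)).toNat : ℝ) = (p : ℝ) ^ d :=
          mul_right_cancel₀ hfac (by rw [← huniq]; ring)
        exact_mod_cast this
      rw [← hnat, ENat.natCast_toNat (hfinL X)]
    · rw [if_neg hqP, mul_zero]
      exact hzero P hP hqP
  · intro N₁ _ _ _ N₂ _ _ _ N₃ _ _ _ f g hf hg hfg h1 h3
    rw [CycLib.length_localized_add P f g hf hg hfg, CycLib.length_localized_add P (Push.map _ f) (Push.map _ g)
      (Push.map_injective hf) (Push.map_surjective hg) (Push.map_exact hfg), h1, h3, mul_add]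

end Frob

end Groth.Agent.GrLib8.Samuel
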