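import Groth.Agent.GrLib8.Samuel.Growth
import Groth.Agent.GrLib8.KChiBound
import Groth.Agent.CycLib.SamuelAssoc

/-!
# Serre's theorem: the Samuel multiplicity of a parameter ideal is the Koszul Euler characteristic
-/

set_option autoImplicit false
set_option linter.style.haveILetI false

universe u

open Polynomial Filter Topology CategoryTheory
open Groth.Agent.HSLib
open scoped Pointwise

namespace Groth.Agent.GrLib8.Samuel

variable {A : Type u} [CommRing A]

theorem pow_smul_sup_of_kill {J I₀ : Ideal A} {N : Type u} [AddCommGroup N] [Module A N]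
    (hJ : J ≤ Module.annihilator A N) (t : ℕ) :
    (J ⊔ I₀) ^ t • (⊤ : Submodule A N) = I₀ ^ t • ⊤ := by
  induction t with
  | zero => simp
  | succ t ih =>
    rw [pow_succ', pow_succ', Submodule.mul_smul, Submodule.mul_smul, ih, Submodule.sup_smul, sup_eq_right,
      Submodule.smul_le]
    intro r hr z _
    rw [Module.mem_annihilator.1 (hJ hr) z]
    exact zero_mem _

theorem qlen_le_qlen {N : Type u} [AddCommGroup N] [Module A N] {Q' Q P' P : Submodule A N} (hQ : Q' ≤ Q)
    (hP : ∀ z ∈ Q', z ∈ P → z ∈ P') (hP' : P' ≤ P) : qlen Q' P' ≤ qlen Q P := by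
  refine Module.length_le_of_injective (Submodule.mapQ (P'.comap Q'.subtype) (P.comap Q.subtype)
    (Submodule.inclusion hQ) fun z hz => hP' hz) ?_
  rw [← LinearMap.ker_eq_bot, Submodule.ker_mapQ, eq_bot_iff, Submodule.map_le_iff_le_comap]
  intro z hz
  rw [Submodule.mem_comap, Submodule.mkQ_apply, Submodule.mem_bot, Submodule.Quotient.mk_eq_zero]
  exact hP z.1 z.2 hz

theorem coeff_comp_add_one (R : ℚ[X]) (d : ℕ) (hR : R.natDegree ≤ d + 1) :
    (R.comp (X + 1) - R).coeff d = (d + 1 : ℚ) * R.coeff (d + 1) ∧ (R.comp (X + 1) - R).natDegree ≤ d := by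
  have key : ∀ m, d ≤ m → (R.comp (X + 1)).coeff m =
      R.coeff d * (d.choose m : ℚ) + R.coeff (d + 1) * ((d + 1).choose m : ℚ) := by
    intro m hm
    have e : R = ∑ i ∈ Finset.range (d + 2), C (R.coeff i) * X ^ i := by
      conv_lhs => rw [R.as_sum_range' (d + 2) (by omega)]
      simp [C_mul_X_pow_eq_monomial]
    conv_lhs => rw [e]
    rw [Polynomial.sum_comp, finsetSum_coeff]
    simp only [mul_comp, C_comp, pow_comp, X_comp, coeff_C_mul, coeff_X_add_one_pow]
    rw [Finset.sum_range_succ, Finset.sum_range_succ, Finset.sum_eq_zero (fun i hi => by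
      rw [Nat.choose_eq_zero_of_lt (show i < m by rw [Finset.mem_range] at hi; omega)]; simp), zero_add]
  refine ⟨?_, natDegree_le_iff_coeff_eq_zero.2 fun m hm => ?_⟩
  · rw [coeff_sub, key d le_rfl, Nat.choose_self, Nat.choose_succ_self_right]
    push_cast
    ring
  · rw [coeff_sub, key m (le_of_lt hm), Nat.choose_eq_zero_of_lt hm]
    rcases (Nat.succ_le_of_lt hm).lt_or_eq with h | h
    · rw [Nat.choose_eq_zero_of_lt h, coeff_eq_zero_of_natDegree_lt (show R.natDegree < m by omega)]
      simp
    · rw [← h]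
      simp

variable [IsNoetherianRing A] [IsLocalRing A]

/-- Passing to the quotient by the last element of a parameter system. -/
theorem regular_step (I : Ideal A) {n : ℕ} (hI : IsLocalRing.maximalIdeal A ^ n ≤ I)
    (hI' : I ≤ IsLocalRing.maximalIdeal A) (N : Type u) [AddCommGroup N] [Module A N] [Module.Finite A N]
    (J : Ideal A) (hJ : J ≤ Module.annihilator A N) (x : A) (l : List A) (hIl : I = J ⊔ Ideal.ofList (x :: l))
    (hreg : IsSMulRegular N x) (hd : Module.supportDim A N ≤ ((l.length + 1 : ℕ) : WithBot ℕ∞))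
    (L' : ℝ) (hL' : Tendsto (fun t : ℕ => (hs I (QuotSMulTop x N) t : ℝ) / (t : ℝ) ^ l.length) atTop (𝓝 L')) :
    Tendsto (fun t : ℕ => (hs I N t : ℝ) / (t : ℝ) ^ (l.length + 1)) atTop (𝓝 (L' / (l.length + 1 : ℝ))) := by
  set d := l.length
  let g : Fin (d + 1) → A := Fin.snoc (fun i : Fin d => l[(i : ℕ)]) x
  set I₀ := Ideal.span (Set.range g)
  have hspan : I₀ = Ideal.ofList (x :: l) := by
    refine congrArg Ideal.span (Set.ext fun a => ?_)
    simp only [Set.mem_range, Set.mem_setOf_eq, List.mem_cons]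
    constructor
    · rintro ⟨i, rfl⟩
      induction i using Fin.lastCases with
      | last => simp [g]
      | cast i => simp [g]
    · rintro (rfl | ha)
      · exact ⟨Fin.last d, by simp [g]⟩
      · obtain ⟨i, hi, rfl⟩ := List.mem_iff_getElem.1 ha
        exact ⟨(⟨i, hi⟩ : Fin d).castSucc, by simp only [g, Fin.snoc_castSucc]⟩
  let E : ℕ → Submodule A N := fun t => I ^ t • ⊤
  have hE : ∀ t, I₀ ^ t • (⊤ : Submodule A N) = E t := fun t => by
    show _ = I ^ t • ⊤
    rw [hIl, pow_smul_sup_of_kill hJ, hspan]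
  have hxI : x ∈ I₀ := Ideal.subset_span ⟨Fin.last d, by simp [g]⟩
  let L : N →ₗ[A] N := LinearMap.lsmul A N x
  have hLinj : Function.Injective L := hreg
  let Q : I₀.Filtration N := I₀.stableFiltration ⊤
  have hQN : ∀ t, Q.N t = E t := hE
  have hanti : ∀ {a b : ℕ}, a ≤ b → E b ≤ E a := fun h => Submodule.smul_mono (Ideal.pow_le_pow_right h) le_rfl
  have hxE : ∀ t, ∀ z ∈ E t, x • z ∈ E (t + 1) := fun t z hz => by
    rw [← hE] at hz ⊢
    rw [pow_succ', Submodule.mul_smul]
    exact Submodule.smul_mem_smul hxI hz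
  let P : I₀.Filtration N :=
    { N := fun t => Q.N (t + 1)
      mono := fun t => Q.mono (t + 1)
      smul_le := fun t => Q.smul_le (t + 1) }
  let K : I₀.Filtration N :=
    { N := fun t => Q.N t ⊓ (Q.N (t + 2)).comap L
      mono := fun t => inf_le_inf (Q.mono t) (Submodule.comap_mono (Q.mono (t + 2)))
      smul_le := fun t => by
        refine le_inf ((Submodule.smul_mono le_rfl inf_le_left).trans (Q.smul_le t)) ?_
        rw [← Submodule.map_le_iff_le_comap, Submodule.map_smul'']
        exact (Submodule.smul_mono le_rfl (Submodule.map_le_iff_le_comap.mpr inf_le_right)).trans (Q.smul_le (t + 2)) }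
  have hPK : ∀ t, P.N t ≤ K.N t := fun t => le_inf (Q.mono t) fun z hz => by
    show x • z ∈ Q.N (t + 2)
    rw [hQN]
    exact hxE _ z (hQN (t + 1) ▸ hz)
  have hmax : MaxSupp I N := maxSupp_of_pow_le hI N
  have hfin : ∀ (t : ℕ) (S : Submodule A N), E t ≤ S → Module.length A (N ⧸ S) ≠ ⊤ := fun t S hS =>
    length_quot_ne_top hmax hS
  have hqfin : ∀ (t : ℕ) (S : Submodule A N), E t ≤ S → qlen S (E t) ≠ ⊤ := fun t S hS h =>
    hfin t (E t) le_rfl (by rw [length_quot_eq_add hS, h, top_add])
  have hKfin : ∀ t, qlen (K.N t) (P.N t) ≠ ⊤ := fun t => by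
    rw [show P.N t = E (t + 1) from hQN (t + 1)]
    exact hqfin _ _ (hQN (t + 1) ▸ hPK t)
  have hKst : K.Stable := (I₀.stableFiltration_stable ⊤).of_le fun t => inf_le_left
  obtain ⟨R₁, hR₁, hR₁e⟩ := hilbert g rfl d (Nat.le_succ d) K P hKst hPK hKfin fun i hi t m hm => by
    have he : i = Fin.last d := Fin.ext (by simp; omega)
    rw [he, show g (Fin.last d) = x by simp [g]]
    exact hm.2
  let q : ℕ → ℕ := fun t => (qlen (K.N t) (P.N t)).toNat
  have hq : Tendsto (fun t : ℕ => (q t : ℝ) / (t : ℝ) ^ d) atTop (𝓝 0) := by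
    have hdeg : R₁.natDegree ≤ d := by
      rcases eq_or_ne R₁ 0 with rfl | h0
      · simp
      · exact le_of_lt ((Polynomial.natDegree_lt_iff_degree_lt h0).2 hR₁)
    have h := tendsto_of_evPoly hR₁e d hdeg
    rwa [coeff_eq_zero_of_degree_lt hR₁, Rat.cast_zero] at h
  obtain ⟨c, hc⟩ := I₀.exists_pow_inf_eq_pow_smul (LinearMap.range L)
  let F : ℕ → Submodule A N := fun t => (E (t + 1)).comap L
  have hEF : ∀ t, E t ≤ F t := fun t z hz => hxE t z hz
  have hFE : ∀ t, F (t + c) ≤ E t := fun t z hz => by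
    have h1 : L z ∈ I₀ ^ (t + c + 1) • (⊤ : Submodule A N) ⊓ LinearMap.range L :=
      ⟨(hE _).symm ▸ hz, ⟨z, rfl⟩⟩
    rw [hc (t + c + 1) (by omega)] at h1
    obtain ⟨z', hz', he⟩ : L z ∈ (I₀ ^ (t + c + 1 - c) • (⊤ : Submodule A N)).map L := by
      rw [Submodule.map_smul'', Submodule.map_top]
      exact Submodule.smul_mono le_rfl inf_le_right h1
    rw [hE] at hz'
    exact hanti (by omega) (hLinj he ▸ hz')
  have hchain : ∀ t : ℕ, ∀ j ≤ c, qlen (F (t + c) ⊓ E (t + c - j)) (E (t + c)) ≤
      ((∑ i ∈ Finset.range j, q (t + c - 1 - i) : ℕ) : ℕ∞) := by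
    intro t j hj
    induction j with
    | zero =>
      simp only [Nat.sub_zero, Finset.range_zero, Finset.sum_empty, Nat.cast_zero]
      exact (qlen_eq_zero_of_le inf_le_right).le
    | succ j ih =>
      have h1 : E (t + c) ≤ F (t + c) ⊓ E (t + c - j) := le_inf (hEF _) (hanti (Nat.sub_le _ _))
      have h2 : F (t + c) ⊓ E (t + c - j) ≤ F (t + c) ⊓ E (t + c - (j + 1)) :=
        inf_le_inf_left _ (hanti (by omega))
      rw [qlen_add h1 h2, Finset.sum_range_succ, Nat.cast_add, ENat.natCast_toNat (hKfin _)]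
      refine add_le_add (ih (by omega)) (qlen_le_qlen ?_ ?_ ?_)
      · rw [show (t + c - 1 - j) = t + c - (j + 1) by omega]
        refine le_inf (inf_le_right.trans (hQN _).ge) (inf_le_left.trans (Submodule.comap_mono ?_))
        rw [hQN]
        exact hanti (by omega)
      · intro z hz hz'
        refine ⟨hz.1, ?_⟩
        rw [show P.N (t + c - 1 - j) = E (t + c - 1 - j + 1) from hQN _] at hz'
        rwa [show t + c - 1 - j + 1 = t + c - j by omega] at hz'
      · rw [show P.N (t + c - 1 - j) = E (t + c - 1 - j + 1) from hQN _,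
          show t + c - 1 - j + 1 = t + c - j by omega]
        exact inf_le_right
  let G : ℕ → ℕ := fun t => (qlen (F t) (E t)).toNat
  have hG : Tendsto (fun t : ℕ => (G t : ℝ) / (t : ℝ) ^ d) atTop (𝓝 0) := by
    rw [← tendsto_add_atTop_iff_nat c]
    have hS : Tendsto (fun t : ℕ => ((∑ i ∈ Finset.range c, q (t + c - 1 - i) : ℕ) : ℝ) / (t : ℝ) ^ d) atTop (𝓝 0) := by
      have h := tendsto_finsetSum (Finset.range c) (fun i (hi : i ∈ Finset.range c) =>
        tendsto_shift (f := fun t => (q t : ℝ)) hq (c - 1 - i))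
      rw [Finset.sum_const_zero] at h
      refine h.congr fun t => ?_
      rw [Nat.cast_sum, Finset.sum_div]
      refine Finset.sum_congr rfl fun i hi => ?_
      rw [Finset.mem_range] at hi
      rw [show t + c - 1 - i = t + (c - 1 - i) by omega]
    refine squeeze_zero' (Eventually.of_forall fun t => by positivity) ?_ hS
    filter_upwards [eventually_gt_atTop 0] with t ht
    have h1 : G (t + c) ≤ ∑ i ∈ Finset.range c, q (t + c - 1 - i) := by
      have h := hchain t c le_rfl
      rw [Nat.add_sub_cancel, inf_eq_left.2 (hFE t)] at h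
      exact (ENat.toNat_le_toNat h (ENat.natCast_ne_top _)).trans_eq (ENat.toNat_natCast _)
    gcongr
    omega
  have hrec : ∀ t, hs I N (t + 1) + G t = hs I (QuotSMulTop x N) (t + 1) + hs I N t := by
    intro t
    let S : Submodule A N := E (t + 1) ⊔ LinearMap.range L
    have hNS : Module.length A (N ⧸ S) =
        Module.length A (QuotSMulTop x N ⧸ (I ^ (t + 1) • (⊤ : Submodule A (QuotSMulTop x N)))) := by
      let φ : N →ₗ[A] QuotSMulTop x N ⧸ (I ^ (t + 1) • (⊤ : Submodule A (QuotSMulTop x N))) :=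
        (I ^ (t + 1) • (⊤ : Submodule A (QuotSMulTop x N))).mkQ ∘ₗ (x • (⊤ : Submodule A N)).mkQ
      have hφ : Function.Surjective φ := (Submodule.mkQ_surjective _).comp (Submodule.mkQ_surjective _)
      have hker : LinearMap.ker φ = S := by
        have e : (I ^ (t + 1) • (⊤ : Submodule A (QuotSMulTop x N))) =
            (E (t + 1)).map (x • (⊤ : Submodule A N)).mkQ := by
          rw [Submodule.map_smul'', Submodule.map_top, Submodule.range_mkQ]
        rw [LinearMap.ker_comp, Submodule.ker_mkQ, e, Submodule.comap_map_mkQ, sup_comm]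
        refine congrArg (E (t + 1) ⊔ ·) (Submodule.ext fun z => ?_)
        simp [L, Submodule.mem_smul_pointwise_iff_exists]
      exact ((Submodule.quotEquivOfEq _ _ hker.symm).trans (φ.quotKerEquivOfSurjective hφ)).length_eq
    have hA : Module.length A (N ⧸ E (t + 1)) = qlen S (E (t + 1)) + Module.length A (N ⧸ S) :=
      length_quot_eq_add le_sup_left
    have hB : qlen S (E (t + 1)) = Module.length A (N ⧸ F t) := by
      have h := qlen_comap x (⊤ : Submodule A N) (E (t + 1))
      rw [top_inf_eq, Submodule.map_top] at h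
      rw [show qlen S (E (t + 1)) = qlen (E (t + 1) ⊔ LinearMap.range L) (E (t + 1)) from rfl, ← h,
        length_quot_eq_add (N₁ := ⊤) (N₂ := F t) le_top]
      have : Module.length A (N ⧸ (⊤ : Submodule A N)) = 0 :=
        Module.length_eq_zero_iff.2 (Submodule.Quotient.subsingleton_iff.2 rfl)
      rw [this, add_zero]
    have hC : Module.length A (N ⧸ E t) = qlen (F t) (E t) + Module.length A (N ⧸ F t) :=
      length_quot_eq_add (hEF t)
    have hS' : Module.length A (N ⧸ S) ≠ ⊤ := hfin (t + 1) S le_sup_left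
    have hF' : Module.length A (N ⧸ F t) ≠ ⊤ := hfin t _ (hEF t)
    simp only [hs, G]
    change (Module.length A (N ⧸ E (t + 1))).toNat + _ = _ + (Module.length A (N ⧸ E t)).toNat
    rw [hA, hB, hC, ENat.toNat_add hF' hS', ENat.toNat_add (hqfin t _ (hEF t)) hF', ← hNS]
    ring
  obtain ⟨R, hRdeg, hR⟩ := exists_poly_le I hI hI' N (d + 1) hd
  obtain ⟨hcoef, hdeg'⟩ := coeff_comp_add_one R d hRdeg
  have h1 := tendsto_eval_div_pow _ d hdeg'
  have h2 : Tendsto (fun t : ℕ => (((R.comp (X + 1) - R).eval (t : ℚ) : ℚ) : ℝ) / (t : ℝ) ^ d) atTop (𝓝 L') := by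
    have h := (tendsto_shift hL' 1).sub hG
    rw [sub_zero] at h
    refine h.congr' ?_
    filter_upwards [hR, (tendsto_add_atTop_nat 1).eventually hR] with t ht ht'
    rw [eval_sub, eval_comp, eval_add, eval_X, eval_one, show ((t : ℚ) + 1) = ((t + 1 : ℕ) : ℚ) by push_cast; rfl,
      ← ht, ← ht', ← sub_div]
    have := congrArg (fun n : ℕ => (n : ℝ)) (hrec t)
    push_cast at this ⊢
    congr 1
    linarith
  have huniq := tendsto_nhds_unique h1 h2
  have h3 := tendsto_of_evPoly hR (d + 1) hRdeg
  rw [hcoef] at huniq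
  push_cast at huniq
  rwa [← huniq, mul_div_cancel_left₀ _ (by positivity)]

open Groth.Agent.GrLib8.KChi in
/-- `e = χ` for modules killed by `J`. -/
theorem chi_eq_lim : ∀ (l : List A), (∀ x ∈ l, x ∈ IsLocalRing.maximalIdeal A) →
    ∀ (I : Ideal A) (n : ℕ), IsLocalRing.maximalIdeal A ^ n ≤ I → I ≤ IsLocalRing.maximalIdeal A →
    ∀ (N : Type u) [AddCommGroup N] [Module A N] [Module.Finite A N], FL (ModuleCat.of A N) l →
    ∀ J : Ideal A, J ≤ Module.annihilator A N → I = J ⊔ Ideal.ofList l →
      Tendsto (fun t : ℕ => ((l.length).factorial : ℝ) * (hs I N t : ℝ) / (t : ℝ) ^ l.length) atTop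
        (𝓝 (chi (ModuleCat.of A N) l : ℝ))
  | [], _, I, _, _, _, N, _, _, _, hN => by
    intro J hJ hIJ
    refine tendsto_const_nhds.congr' ?_
    filter_upwards [eventually_gt_atTop 0] with t ht
    have hfl : IsFiniteLength A (N ⧸ (Ideal.ofList ([] : List A) • (⊤ : Submodule A N))) :=
      (FL_iff (ModuleCat.of A N) []).1 hN
    have hI0 : I ^ t • (⊤ : Submodule A N) = if t = 0 then ⊤ else ⊥ := by
      rw [hIJ, pow_smul_sup_of_kill hJ, Ideal.ofList_nil]
      split_ifs with h
      · simp [h]
      · rw [← Ideal.zero_eq_bot, zero_pow h, Ideal.zero_eq_bot, Submodule.bot_smul]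
    rw [chi_nil_eq]
    simp only [List.length_nil, Nat.factorial_zero, Nat.cast_one, one_mul, pow_zero, div_one]
    rw [if_neg ht.ne'] at hI0
    show (((Module.length A N).toNat : ℤ) : ℝ) = ((Module.length A (N ⧸ I ^ t • (⊤ : Submodule A N))).toNat : ℝ)
    rw [(Submodule.quotEquivOfEqBot _ hI0).length_eq]
    norm_cast
  | x :: l, hl, I, n, hI, hI', N, _, _, hfin, hN => by
    have hx : x ∈ IsLocalRing.maximalIdeal A := hl x List.mem_cons_self
    have hl' : ∀ y ∈ l, y ∈ IsLocalRing.maximalIdeal A := fun y hy => hl y (List.mem_cons_of_mem _ hy)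
    have ih := chi_eq_lim l hl' I n hI hI'
    revert hN
    refine IsNoetherianRing.induction_on_isQuotientEquivQuotientPrime (A := A) (M := N) hfin
      (motive := fun M _ _ _ => FL (ModuleCat.of A M) (x :: l) → ∀ J : Ideal A, J ≤ Module.annihilator A M →
        I = J ⊔ Ideal.ofList (x :: l) →
        Tendsto (fun t : ℕ => (((x :: l).length).factorial : ℝ) * (hs I M t : ℝ) / (t : ℝ) ^ (x :: l).length) atTop
          (𝓝 (chi (ModuleCat.of A M) (x :: l) : ℝ))) ?_ ?_ ?_
    · intro M _ _ _ _ hM J _ _
      rw [chi_cons_of_kill hM fun z => Subsingleton.elim _ _, Int.cast_zero]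
      refine tendsto_const_nhds.congr fun t => ?_
      haveI : Subsingleton (M ⧸ (I ^ t • (⊤ : Submodule A M))) := (Submodule.mkQ_surjective _).subsingleton
      simp [hs, Module.length_eq_zero]
    · intro M _ _ _ p e hM J hJ hIJ
      by_cases hxp : x ∈ p.asIdeal
      · have hk : ∀ z : M, x • z = 0 := fun z => e.injective (by
          rw [map_smul, map_zero]
          obtain ⟨r, hr⟩ := Ideal.Quotient.mk_surjective (e z)
          rw [← hr]
          show Ideal.Quotient.mk _ (x * r) = 0
          exact Ideal.Quotient.eq_zero_iff_mem.2 (Ideal.mul_mem_right _ _ hxp))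
        have hM' : FL (ModuleCat.of A M) l := fun q hq => hM q (sup_le (le_sup_left.trans hq) (by
          rw [Ideal.ofList_cons]
          exact sup_le ((Ideal.span_singleton_le_iff_mem _).2 (hq (Submodule.mem_sup_left
            (Module.mem_annihilator.2 hk)))) (le_sup_right.trans hq)))
        rw [chi_cons_of_kill hM hk, Int.cast_zero]
        exact Groth.Agent.CycLib.tendsto_samuel_zero I hI hI' (dimSpec l hl' M hM').1
          (show l.length < (x :: l).length by rw [List.length_cons]; omega)
      · have hreg : ∀ z : M, x • z = 0 → z = 0 := fun z hz => e.injective (by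
          rw [map_zero]
          obtain ⟨r, hr⟩ := Ideal.Quotient.mk_surjective (e z)
          have h : x • e z = 0 := by rw [← map_smul, hz, map_zero]
          rw [← hr] at h ⊢
          rw [Ideal.Quotient.eq_zero_iff_mem]
          exact (p.2.mem_or_mem (Ideal.Quotient.eq_zero_iff_mem.1 h)).resolve_left hxp)
        have hreg' : IsSMulRegular M x := isSMulRegular_iff_right_eq_zero_of_smul.2 hreg
        let M' := QuotSMulTop x M
        have hex : ∀ z : M, Submodule.mkQ (x • (⊤ : Submodule A M)) z = 0 ↔ ∃ y, x • y = z := fun z => by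
          rw [Submodule.mkQ_apply, Submodule.Quotient.mk_eq_zero, Submodule.mem_smul_pointwise_iff_exists]
          simp
        have hkx : x ∈ Module.annihilator A M' := Module.mem_annihilator.2 fun z => by
          obtain ⟨z, rfl⟩ := Submodule.mkQ_surjective _ z
          rw [← map_smul]
          exact (hex _).2 ⟨z, rfl⟩
        have hann : Module.annihilator A M ≤ Module.annihilator A M' :=
          LinearMap.annihilator_le_of_surjective _ (Submodule.mkQ_surjective _)
        have hM' : FL (ModuleCat.of A M') l := fun q hq => hM q (sup_le (hann.trans (le_sup_left.trans hq)) (by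
          rw [Ideal.ofList_cons]
          exact sup_le ((Ideal.span_singleton_le_iff_mem _).2 (hq (Submodule.mem_sup_left hkx)))
            (le_sup_right.trans hq)))
        have h' := ih M' hM' (J ⊔ Ideal.span {x})
          (sup_le (hJ.trans hann) ((Ideal.span_singleton_le_iff_mem _).2 hkx))
          (by rw [hIJ, Ideal.ofList_cons, sup_assoc])
        rw [chi_cons_of_regular (M := ModuleCat.of A M) (M' := ModuleCat.of A M')
          (ModuleCat.ofHom (Submodule.mkQ _)) (Submodule.mkQ_surjective _) hreg hex]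
        have hfac : (0 : ℝ) < ((l.length).factorial : ℝ) := by positivity
        have h'' : Tendsto (fun t : ℕ => (hs I M' t : ℝ) / (t : ℝ) ^ l.length) atTop
            (𝓝 ((chi (ModuleCat.of A M') l : ℝ) / (l.length).factorial)) := by
          refine (h'.div_const _).congr fun t => ?_
          field_simp
        have hd : Module.supportDim A M ≤ ((l.length + 1 : ℕ) : WithBot ℕ∞) := by
          rw [← List.length_cons]
          exact (dimSpec (x :: l) hl M hM).1
        refine ((regular_step I hI hI' M J hJ x l hIJ hreg' hd _ h'').const_mul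
          (((l.length + 1).factorial : ℕ) : ℝ)).congr' ?_ |>.trans (le_of_eq (congrArg 𝓝 ?_))
        · exact Eventually.of_forall fun t => (mul_div_assoc _ _ _).symm
        · rw [Nat.factorial_succ]
          push_cast
          field_simp
    · intro N₁ _ _ _ N₂ _ _ _ N₃ _ _ _ f g hf hg hfg h1 h3 hM J hJ hIJ
      have hM1 : FL (ModuleCat.of A N₁) (x :: l) := fun q hq =>
        hM q (sup_le ((LinearMap.annihilator_le_of_injective f hf).trans (le_sup_left.trans hq)) (le_sup_right.trans hq))
      have hM3 : FL (ModuleCat.of A N₃) (x :: l) := fun q hq =>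
        hM q (sup_le ((LinearMap.annihilator_le_of_surjective g hg).trans (le_sup_left.trans hq)) (le_sup_right.trans hq))
      rw [chi_add (M₁ := ModuleCat.of A N₁) (M₂ := ModuleCat.of A N₂) (M₃ := ModuleCat.of A N₃)
        (ModuleCat.ofHom f) (ModuleCat.ofHom g) hf hg hfg hM1 hM hM3, Int.cast_add]
      exact Groth.Agent.CycLib.samuel_add I hI f g hf hg hfg.linearMap_ker_eq.symm _
        (h1 hM1 J (hJ.trans (LinearMap.annihilator_le_of_injective f hf)) hIJ)
        (h3 hM3 J (hJ.trans (LinearMap.annihilator_le_of_surjective g hg)) hIJ)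

open Groth.Agent.GrLib8.KChi in
theorem tendsto_chi (l : List A) (hl : ∀ x ∈ l, x ∈ IsLocalRing.maximalIdeal A) (N : Type u) [AddCommGroup N]
    [Module A N] [Module.Finite A N] (hN : FL (ModuleCat.of A N) l) :
    Tendsto (fun t : ℕ => ((l.length).factorial : ℝ) *
      ((Module.length A (N ⧸ (Ideal.ofList l ^ t • (⊤ : Submodule A N)))).toNat : ℝ) / (t : ℝ) ^ l.length) atTop
        (𝓝 (chi (ModuleCat.of A N) l : ℝ)) := by
  set I := Module.annihilator A N ⊔ Ideal.ofList l with hIdef
  by_cases hI' : I ≤ IsLocalRing.maximalIdeal A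
  · obtain ⟨n, hn⟩ : ∃ n, IsLocalRing.maximalIdeal A ^ n ≤ I := by
      refine Ideal.exists_pow_le_of_le_radical_of_fg ?_ (IsNoetherian.noetherian _)
      rw [Ideal.radical_eq_sInf]
      refine le_sInf fun q hq => ?_
      haveI := hq.2
      exact (congrArg PrimeSpectrum.asIdeal (hN ⟨q, hq.2⟩ hq.1)).ge
    refine (chi_eq_lim l hl I n hn hI' N hN _ le_rfl hIdef).congr fun t => ?_
    rw [hs, hIdef, pow_smul_sup_of_kill le_rfl]
  · haveI : Subsingleton N := by
      by_contra hne
      rw [not_subsingleton_iff_nontrivial] at hne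
      exact hI' (sup_le (IsLocalRing.le_maximalIdeal fun h => not_subsingleton N
        (Module.annihilator_eq_top_iff.1 h)) (Ideal.span_le.2 hl))
    rw [(dimSpec l hl N hN).2.1 (by rw [Module.supportDim_eq_bot_of_subsingleton]; exact WithBot.bot_lt_coe _),
      Int.cast_zero]
    refine tendsto_const_nhds.congr fun t => ?_
    haveI : Subsingleton (N ⧸ (Ideal.ofList l ^ t • (⊤ : Submodule A N))) := (Submodule.mkQ_surjective _).subsingleton
    simp [Module.length_eq_zero]

end Groth.Agent.GrLib8.Samuel
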